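import Mathlib.GroupTheory.Sylow
import Mathlib.GroupTheory.Solvable
import Mathlib.GroupTheory.SpecificGroups.Cyclic
import Cfsg.Agent.Lib.Components.Fitting
import Cfsg.Prelude.Def_CaseTheorems

/-!
Small facts about solvable groups modulo the odd core: `C(O₂) ≤ O₂`, and criteria forcing a group to be a 2-group.
-/

set_option autoImplicit false

namespace Cfsg.Agent.SolvableTwo

open Subgroup

variable {G : Type*} [Group G] [Finite G]

omit [Finite G] in
theorem oddCore_normal : (Cfsg.oddCore G).Normal := Subgroup.sSup_normal _ fun _ h => h.1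

theorem odd_card_oddCore : Odd (Nat.card (Cfsg.oddCore G)) := by
  classical
  have key : ∀ s : Finset (Subgroup G), (∀ N ∈ s, N.Normal ∧ Odd (Nat.card N)) → (s.sup id).Normal ∧ Odd (Nat.card ↥(s.sup id)) := by
    intro s
    induction s using Finset.induction with
    | empty => intro _; simp only [Finset.sup_empty]; exact ⟨inferInstance, by simp⟩
    | @insert a s _ ih =>
      intro h
      obtain ⟨hsn, hso⟩ := ih fun N hN => h N (Finset.mem_insert_of_mem hN)
      obtain ⟨han, hao⟩ := h a (Finset.mem_insert_self a s)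
      rw [Finset.sup_insert, id_eq]
      refine ⟨inferInstance, ?_⟩
      have hd : Nat.card ↥(a ⊔ s.sup id) ∣ Nat.card a * Nat.card ↥(s.sup id) := by
        have h1 : (s.sup id).relIndex (a ⊔ s.sup id) ∣ Nat.card a := by
          rw [Subgroup.relIndex_sup_right]; exact Subgroup.relIndex_dvd_card _ _
        have h2 : Nat.card ↥(s.sup id) * (s.sup id).relIndex (a ⊔ s.sup id) = Nat.card ↥(a ⊔ s.sup id) :=
          by rw [← Subgroup.relIndex_bot_left, ← Subgroup.relIndex_bot_left, Subgroup.relIndex_mul_relIndex _ _ _ bot_le le_sup_right]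
        rw [← h2, Nat.mul_comm (Nat.card a)]
        exact Nat.mul_dvd_mul_left _ h1
      exact (hao.mul hso).of_dvd_nat hd
  classical
  haveI : Fintype (Subgroup G) := Fintype.ofFinite _
  have hfin := key (Finset.univ.filter fun N : Subgroup G => N.Normal ∧ (Nat.card N).Coprime 2)
    (fun N hN => by
      obtain ⟨h1, h2⟩ := (Finset.mem_filter.mp hN).2
      exact ⟨h1, Nat.coprime_two_right.mp h2⟩)
  have heq : (Finset.univ.filter fun N : Subgroup G => N.Normal ∧ (Nat.card N).Coprime 2).sup id = Cfsg.oddCore G := by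
    rw [Finset.sup_id_eq_sSup]
    congr 1
    ext N; simp
  rw [heq] at hfin
  exact hfin.2

theorem le_oddCore {N : Subgroup G} (hn : N.Normal) (ho : Odd (Nat.card N)) : N ≤ Cfsg.oddCore G :=
  le_sSup ⟨hn, Nat.coprime_two_right.mpr ho⟩

/-- The quotient by the odd core has trivial odd core (stated for any normal `N` equal to it). -/
theorem eq_bot_of_odd_normal (N : Subgroup G) [N.Normal] (hN : N = Cfsg.oddCore G) (M : Subgroup (G ⧸ N))
    (hM : M.Normal) (ho : Odd (Nat.card M)) : M = ⊥ := by
  subst hN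
  have hn : (M.comap (QuotientGroup.mk' (Cfsg.oddCore G))).Normal := hM.comap _
  have hle : (Cfsg.oddCore G) ≤ M.comap (QuotientGroup.mk' (Cfsg.oddCore G)) := fun x hx => by
    rw [Subgroup.mem_comap, QuotientGroup.mk'_apply, (QuotientGroup.eq_one_iff x).mpr hx]; exact M.one_mem
  have hcard : Nat.card ↥(M.comap (QuotientGroup.mk' (Cfsg.oddCore G))) = Nat.card (Cfsg.oddCore G) * Nat.card M := by
    rw [← Subgroup.relIndex_bot_left (M.comap _), ← Subgroup.relIndex_mul_relIndex _ _ _ bot_le hle, Subgroup.relIndex_bot_left]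
    congr 1
    have : (Cfsg.oddCore G) = (⊥ : Subgroup (G ⧸ (Cfsg.oddCore G))).comap (QuotientGroup.mk' (Cfsg.oddCore G)) := by
      rw [MonoidHom.comap_bot, QuotientGroup.ker_mk']
    conv_lhs => arg 1; rw [this]
    rw [Subgroup.relIndex_comap, Subgroup.map_comap_eq_self_of_surjective (QuotientGroup.mk'_surjective (Cfsg.oddCore G)), Subgroup.relIndex_bot_left]
  have hodd : Odd (Nat.card ↥(M.comap (QuotientGroup.mk' (Cfsg.oddCore G)))) := by
    rw [hcard]; exact odd_card_oddCore.mul ho
  have hle' := le_oddCore hn hodd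
  apply le_bot_iff.mp
  intro y hy
  obtain ⟨x, rfl⟩ := QuotientGroup.mk'_surjective (Cfsg.oddCore G) y
  exact Subgroup.mem_bot.mpr ((QuotientGroup.eq_one_iff x).mpr (hle' hy))

/-- In a solvable group without nontrivial normal subgroups of odd order, `C(O₂) ≤ O₂`. -/
theorem centralizer_pCore_two_le (hs : Group.IsSolvable G)
    (ho : ∀ M : Subgroup G, M.Normal → Odd (Nat.card M) → M = ⊥) :
    Subgroup.centralizer ((Cfsg.pCore 2 G : Subgroup G) : Set G) ≤ Cfsg.pCore 2 G := by
  have hF : Cfsg.fittingSubgroup G = Cfsg.pCore 2 G := by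
    refine le_antisymm ?_ (Components.pCore_le_fittingSubgroup Nat.prime_two)
    rw [Components.fittingSubgroup_eq_iSup_pCore]
    refine iSup_le fun q => ?_
    obtain ⟨p, hmem⟩ := q
    have hpp : p.Prime := Nat.prime_of_mem_primeFactors hmem
    by_cases h2 : p = 2
    · subst h2; exact le_rfl
    · haveI := Fact.mk hpp
      obtain ⟨k, hk⟩ := IsPGroup.iff_card.mp (Components.isPGroup_pCore' (G := G) p)
      rw [ho _ (Components.pCore_normal' p) (hk ▸ (hpp.odd_of_ne_two h2).pow)]
      exact bot_le
  rw [← hF]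
  exact Components.centralizer_fittingSubgroup_le

omit [Finite G] in
theorem odd_pow_two_eq_one {k m : ℕ} (hm : Odd m) {x : G} (h1 : x ^ m = 1) (h2 : x ^ 2 ^ k = 1) : x = 1 :=
  orderOf_eq_one_iff.mp (Nat.eq_one_of_dvd_coprimes ((Nat.coprime_two_right.mpr hm).pow_right k)
    (orderOf_dvd_of_pow_eq_one h1) (orderOf_dvd_of_pow_eq_one h2))

/-- If the self-centralizing normal 2-subgroup `R` has a normal cyclic subgroup `A` such that conjugation by
elements of odd order is trivial modulo `A`, then the group is a 2-group. -/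
theorem isPGroup_two_of_cyclic {R A : Subgroup G} (hA : A.Normal) (hAR : A ≤ R) (hR : IsPGroup 2 R)
    (hAc : IsCyclic A) (hC : Subgroup.centralizer (R : Set G) ≤ R)
    (hq : ∀ g : G, Odd (orderOf g) → ∀ r ∈ R, r⁻¹ * (g * r * g⁻¹) ∈ A) : IsPGroup 2 G := by
  obtain ⟨k, hk⟩ := IsPGroup.iff_card.mp (hR.to_le hAR)
  have hodd1 : ∀ g : G, Odd (orderOf g) → g = 1 := by
    intro g hg
    -- `g` centralizes `A`
    have hgA : ∀ a ∈ A, g * a * g⁻¹ = a := by
      set φ : G →* MulAut A := MulAut.conjNormal with hφ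
      have h1 : φ g = 1 := by
        rcases k with _ | k
        · have hsub : Subsingleton A := (Nat.card_eq_one_iff_unique.mp (by simpa using hk)).1
          exact MulEquiv.ext fun a => Subsingleton.elim _ _
        · refine odd_pow_two_eq_one (k := k) hg ?_ ?_
          · rw [← map_pow, pow_orderOf_eq_one, map_one]
          · have : Nat.card (MulAut A) = 2 ^ k := by
              rw [IsCyclic.card_mulAut, hk, Nat.totient_prime_pow Nat.prime_two (Nat.succ_pos k)]; simp
            rw [← this]; exact pow_card_eq_one'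
      intro a ha
      have := congrArg Subtype.val (DFunLike.congr_fun h1 (⟨a, ha⟩ : A))
      simpa [hφ] using this
    have hgC : g ∈ Subgroup.centralizer (R : Set G) := by
      refine Subgroup.mem_centralizer_iff.mpr fun r hr => ?_
      set c := r⁻¹ * (g * r * g⁻¹) with hc
      have hcA : c ∈ A := hq g hg r hr
      have hind : ∀ j : ℕ, g ^ j * r * (g ^ j)⁻¹ = r * c ^ j := by
        intro j
        induction j with
        | zero => simp
        | succ j ih =>
          have hgc : g * c ^ j * g⁻¹ = c ^ j := hgA _ (pow_mem hcA j)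
          calc g ^ (j + 1) * r * (g ^ (j + 1))⁻¹ = g * (g ^ j * r * (g ^ j)⁻¹) * g⁻¹ := by
                rw [pow_succ']; group
            _ = g * r * g⁻¹ * (g * c ^ j * g⁻¹) := by rw [ih]; group
            _ = r * c * c ^ j := by rw [hgc, hc]; group
            _ = r * c ^ (j + 1) := by rw [pow_succ', mul_assoc]
      have h0 := hind (orderOf g)
      rw [pow_orderOf_eq_one, inv_one, mul_one, one_mul] at h0
      have hc1 : c = 1 := by
        refine odd_pow_two_eq_one (k := k) hg (mul_eq_left.mp h0.symm) ?_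
        rw [← hk]
        exact congrArg Subtype.val (pow_card_eq_one' (x := (⟨c, hcA⟩ : A)))
      rw [hc, inv_mul_eq_one] at hc1
      exact (eq_mul_inv_iff_mul_eq.mp hc1)
    obtain ⟨j, hj⟩ := IsPGroup.iff_orderOf.mp hR ⟨g, hC hgC⟩
    rw [Subgroup.orderOf_mk] at hj
    exact odd_pow_two_eq_one (k := j) hg (pow_orderOf_eq_one g) (hj ▸ pow_orderOf_eq_one g)
  refine IsPGroup.iff_card.mpr ?_
  refine ⟨_, Nat.eq_prime_pow_of_unique_prime_dvd (p := 2) Nat.card_pos.ne' fun {d} hd hdd => ?_⟩
  by_contra hne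
  haveI := Fact.mk hd
  obtain ⟨g, hg⟩ := exists_prime_orderOf_dvd_card' d hdd
  have h1 := hodd1 g (hg ▸ hd.odd_of_ne_two hne)
  rw [h1, orderOf_one] at hg
  exact hd.ne_one hg.symm

/-- A group with a cyclic self-centralizing normal 2-subgroup is a 2-group. -/
theorem isPGroup_two_of_cyclic_self_centralizing {R : Subgroup G} (hn : R.Normal) (hR : IsPGroup 2 R)
    (hc : IsCyclic R) (hC : Subgroup.centralizer (R : Set G) ≤ R) : IsPGroup 2 G :=
  isPGroup_two_of_cyclic hn le_rfl hR hc hC fun g _ r hr => mul_mem (inv_mem hr) (hn.conj_mem r hr g)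

end Cfsg.Agent.SolvableTwo
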