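import Cfsg.Agent.Lib.SolvableTwo.SmallAbelian
import Cfsg.Agent.Lib.SolvableTwo.Basic
import Cfsg.Agent.Lib.PGroup.Critical
import Cfsg.Agent.Lib.PGroup.Extraspecial
import Cfsg.Agent.Lib.PGroup.CyclicMaximal
import Cfsg.Agent.Lib.Solvable.Hall
import Cfsg.Agent.Lib.Offender.Thompson
import Cfsg.Agent.Lib.PCore.Basic
import Cfsg.Agent.Lib.Balance.CharP

/-!
# Minimal solvable groups with a noncyclic abelian subgroup of order 8

`isPGroup_of_small_critical`: if the critical subgroup of a self-centralizing normal 2-subgroup is small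
and the group is good, the group is a 2-group.
`sylow_structure`: the structure of the Sylow 2-subgroup.
-/

set_option autoImplicit false

namespace Cfsg.Agent.SmallAbelian

open Subgroup
open scoped commutatorElement

variable {G : Type*} [Group G] [Finite G]

theorem card_map_mk_mul {N C : Subgroup G} [N.Normal] (h : N ≤ C) :
    Nat.card N * Nat.card (C.map (QuotientGroup.mk' N)) = Nat.card C := by
  rw [← Solvable.card_sup_normal, sup_eq_left.2 h]

theorem zmod_two_add_one : ∀ b : ZMod 2, b ≠ 0 → b + 1 = 0 := by decide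

theorem zmod_two_one_add_one : (1 : ZMod 2) + 1 = 0 := by decide

theorem zmod_two_two : (2 : ZMod 2) = 0 := by decide

/-- A 2-group acting on a normal subgroup of order 4 has a kernel of index at most 2. -/
theorem card_le_two_mul_ker {V A : Type*} [Group V] [Finite V] [Group A] [Finite A] (hV : Nat.card V = 4)
    (hA : IsPGroup 2 A) (φ : A →* MulAut V) : Nat.card A ≤ 2 * Nat.card φ.ker := by
  classical
  haveI : Fintype V := Fintype.ofFinite V
  let T := {v : V // v ≠ 1}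
  let ψ : MulAut V →* Equiv.Perm T :=
    { toFun := fun f => Equiv.Perm.subtypePerm f.toEquiv fun v => by simp
      map_one' := Equiv.ext fun v => Subtype.ext rfl
      map_mul' := fun f g => Equiv.ext fun v => Subtype.ext rfl }
  have hψ : Function.Injective ψ := fun f g h => MulEquiv.ext fun v => by
    rcases eq_or_ne v 1 with rfl | hv
    · rw [map_one, map_one]
    · exact congrArg Subtype.val (Equiv.congr_fun h ⟨v, hv⟩)
  have hT : Fintype.card T = 3 := by
    rw [Fintype.card_subtype_compl, Fintype.card_subtype_eq, ← Nat.card_eq_fintype_card, hV]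
  have h6 : Nat.card φ.range ∣ 6 := by
    have h1 := card_dvd_of_injective (ψ.comp φ.range.subtype) (hψ.comp φ.range.subtype_injective)
    rwa [Nat.card_eq_fintype_card (α := Equiv.Perm T), Fintype.card_perm, hT] at h1
  obtain ⟨k, hk⟩ := (hA.of_surjective φ.rangeRestrict φ.rangeRestrict_surjective).exists_card_eq
  have hk1 : k ≤ 1 := by
    rw [hk] at h6
    by_contra hlt
    have h2 : 2 ^ 2 ∣ 6 := (pow_dvd_pow 2 (by omega)).trans h6
    norm_num at h2
  rw [← card_mul_index φ.ker, index_ker, hk, mul_comm]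
  exact Nat.mul_le_mul_right _ ((Nat.pow_le_pow_right two_pos hk1).trans (by norm_num))

/-- An element of odd order centralizing a critical subgroup of a self-centralizing normal 2-group is trivial. -/
theorem eq_one_of_odd_centralizes {Q : Subgroup G} [Q.Normal] (hQ : IsPGroup 2 Q)
    (hCQ : centralizer (Q : Set G) ≤ Q) {C₀ : Subgroup Q} [C₀.Normal]
    (hC : centralizer (C₀ : Set Q) ≤ C₀) {g : G} (hg : Odd (orderOf g))
    (hfix : ∀ w ∈ C₀, g * (w : G) = w * g) : g = 1 := by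
  haveI : Fact (Nat.Prime 2) := ⟨Nat.prime_two⟩
  have hcop : (orderOf g).Coprime 2 := Nat.coprime_two_right.2 hg
  have h1 := PGroup.aut_eq_one_of_centralizer_le hQ C₀ hC (MulAut.conjNormal g)
    (hcop.coprime_dvd_left (orderOf_map_dvd _ g)) fun w hw => Subtype.ext (by
      rw [MulAut.conjNormal_apply, hfix w hw, mul_inv_cancel_right])
  have hgQ : g ∈ Q := hCQ (mem_centralizer_iff.2 fun a ha => by
    have := congrArg Subtype.val (DFunLike.congr_fun h1 (⟨a, ha⟩ : Q))
    simp only [MulAut.conjNormal_apply, MulAut.one_apply] at this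
    exact (mul_inv_eq_iff_eq_mul.1 this).symm)
  exact Balance.eq_one_of_mem_pGroup_of_coprime hQ hgQ hcop

/-- Facts on a critical subgroup, moved into the ambient group. -/
theorem critical_facts {Q : Subgroup G} [Q.Normal] (hQ : IsPGroup 2 Q)
    (hCQ : centralizer (Q : Set G) ≤ Q) (hQmax : ∀ N : Subgroup G, N.Normal → IsPGroup 2 N → N ≤ Q) :
    ∃ C₀ : Subgroup Q, (C₀.map Q.subtype).Normal ∧ Sq (C₀.map Q.subtype) ∧
      centralizer (C₀.map Q.subtype : Set G) ≤ C₀.map Q.subtype ∧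
      ∀ g : G, Odd (orderOf g) → g ∈ centralizer (C₀.map Q.subtype : Set G) → g = 1 := by
  haveI : Fact (Nat.Prime 2) := ⟨Nat.prime_two⟩
  obtain ⟨C₀, hchar, hfr, hcomm, hcent⟩ := PGroup.exists_critical hQ
  haveI := hchar
  set C := C₀.map Q.subtype with hC
  have hCn : C.Normal := inferInstance
  have hodd : ∀ g : G, Odd (orderOf g) → g ∈ centralizer (C : Set G) → g = 1 := fun g hg hgC =>
    eq_one_of_odd_centralizes hQ hCQ hcent hg fun w hw =>
      (mem_centralizer_iff.1 hgC (w : G) (mem_map_of_mem _ hw)).symm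
  have hmapc : ∀ c : Q, c ∈ centralizer (C₀ : Set Q) → (c : G) ∈ centralizer (C : Set G) := by
    intro c hc
    refine mem_centralizer_iff.2 ?_
    rintro _ ⟨w, hw, rfl⟩
    exact congrArg Subtype.val (mem_centralizer_iff.1 hc w hw)
  refine ⟨C₀, hCn, ⟨hQ.to_le (map_subtype_le _), ?_, ?_⟩, ?_, hodd⟩
  · rintro _ ⟨x, hx, rfl⟩
    refine hmapc (x * x) (hfr ⟨(⟨x, hx⟩ : C₀) * ⟨x, hx⟩, ?_, rfl⟩)
    have := PGroup.pow_mem_frattini (hQ.to_subgroup C₀) (⟨x, hx⟩ : C₀)
    rwa [pow_two] at this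
  · rintro _ ⟨x, hx, rfl⟩ _ ⟨y, -, rfl⟩
    exact hmapc _ (mem_inf.1 (hcomm (commutator_mem_commutator hx (mem_top y)))).2
  · haveI := hCn
    have hp : IsPGroup 2 ↥(centralizer (C : Set G)) :=
      Balance.isPGroup_of_forall_coprime_eq_one fun y hy hcop => hodd y (Nat.coprime_two_right.1 hcop) hy
    intro x hx
    have hxQ := hQmax _ inferInstance hp hx
    refine ⟨⟨x, hxQ⟩, hcent (mem_centralizer_iff.2 fun w hw => Subtype.ext ?_), rfl⟩
    exact mem_centralizer_iff.1 hx _ (mem_map_of_mem _ hw)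

/-- The critical subgroup cannot be small unless the group is a 2-group. -/
theorem isPGroup_of_small_critical {C R : Subgroup G} [C.Normal] (hC : Sq C)
    (hcent : centralizer (C : Set G) ≤ C)
    (hodd : ∀ g : G, Odd (orderOf g) → g ∈ centralizer (C : Set G) → g = 1)
    (hCR : C ≤ R) (hR : ¬ Good R) (hG : Good (⊤ : Subgroup G)) : IsPGroup 2 G := by
  haveI : Fact (Nat.Prime 2) := ⟨Nat.prime_two⟩
  obtain ⟨A, -, hAc, hAnc, hA8⟩ := hG
  have hA : IsPGroup 2 A := IsPGroup.of_card (n := 3) (by rw [hA8]; norm_num)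
  have hAcomm : ∀ a ∈ A, ∀ b ∈ A, a * b = b * a := fun a ha b hb =>
    congrArg Subtype.val (hAc.is_comm.comm ⟨a, ha⟩ ⟨b, hb⟩)
  rcases hC.small_cases hCR hR with hcyc | ⟨h4, hcc⟩ | ⟨z, h⟩
  · exact SolvableTwo.isPGroup_two_of_cyclic (R := C) (A := C) inferInstance le_rfl hC.pgroup hcyc hcent
      fun g _ r hr => mul_mem (inv_mem hr) (Subgroup.Normal.conj_mem inferInstance r hr g)
  · -- a four-group
    exfalso
    let φ : A →* MulAut C := (MulAut.conjNormal (H := C)).comp A.subtype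
    have h1 := card_le_two_mul_ker h4 hA φ
    have hker : φ.ker.map A.subtype ≤ A ⊓ C := by
      rintro _ ⟨a, ha, rfl⟩
      refine ⟨a.2, hcent (mem_centralizer_iff.2 fun w hw => ?_)⟩
      have := congrArg Subtype.val (DFunLike.congr_fun (MonoidHom.mem_ker.1 ha) (⟨w, hw⟩ : C))
      simp only [φ, MonoidHom.comp_apply, MulAut.conjNormal_apply, MulAut.one_apply] at this
      exact (mul_inv_eq_iff_eq_mul.1 this).symm
    have h2 := card_le_of_le hker
    rw [card_map_of_injective A.subtype_injective] at h2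
    rw [hA8] at h1
    have hCA : C ≤ A := by
      have := eq_of_le_of_card_ge (inf_le_right : A ⊓ C ≤ C) (by omega)
      exact this.ge.trans inf_le_left
    have hAC : A ≤ C := fun a ha => hcent (mem_centralizer_iff.2 fun w hw => hAcomm w (hCA hw) a ha)
    have := card_le_of_le hAC
    omega
  · -- order eight
    intro g
    by_contra hg
    -- some element of odd order is nontrivial on `C`
    obtain ⟨g, hgodd, hg1⟩ : ∃ g : G, Odd (orderOf g) ∧ g ≠ 1 := by
      by_contra hcon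
      push Not at hcon
      have : IsPGroup 2 (⊤ : Subgroup G) := Balance.isPGroup_of_forall_coprime_eq_one
        fun y _ hy => hcon y (Nat.coprime_two_right.1 hy)
      obtain ⟨k, hk⟩ := this ⟨g, mem_top g⟩
      exact hg ⟨k, congrArg Subtype.val hk⟩
    have hgC : g ∉ centralizer (C : Set G) := fun hh => hg1 (hodd g hgodd hh)
    have hsq : ∀ w ∈ C, w ≠ 1 ∧ w ≠ z → w * w = z := fun w hw hwZ =>
      h.sq_eq_of_odd hgodd (fun v hv => Subgroup.Normal.conj_mem inferInstance v hv g) hgC hw hwZ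
    set Z := C ⊓ centralizer (C : Set G) with hZ
    haveI : Z.Normal := Subgroup.normal_inf_normal _ _
    set π := QuotientGroup.mk' Z with hπ
    haveI : (C.map π).Normal := Subgroup.Normal.map inferInstance _ (QuotientGroup.mk'_surjective Z)
    have hV : Nat.card (C.map π) = 4 := by
      have := card_map_mk_mul (N := Z) (C := C) inf_le_left
      rw [show Nat.card Z = 2 from card_inf_eq_two h.center h.ne, h.card] at this
      change 2 * Nat.card (C.map π) = 8 at this
      omega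
    let φ : A →* MulAut (C.map π) := ((MulAut.conjNormal (H := C.map π)).comp π).comp A.subtype
    have h1 := card_le_two_mul_ker hV hA φ
    have hmk : ∀ x y : G, π x = π y → x * y⁻¹ = 1 ∨ x * y⁻¹ = z := fun x y hxy => (h.center _).1 (by
      show x * y⁻¹ ∈ Z
      rw [← QuotientGroup.eq_one_iff]
      show π (x * y⁻¹) = 1
      rw [map_mul, map_inv, hxy, mul_inv_cancel])
    have hfixmem : ∀ a : G, (∀ w ∈ C, π (a * w * a⁻¹) = π w) → a ∈ C := fun a ha => by
      obtain ⟨c, hc, hca⟩ := h.mem_of_fix_mod (x := a) fun w hw =>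
        (hmk _ _ (ha w hw)).imp (fun e => mul_inv_eq_one.1 e) (fun e => mul_inv_eq_iff_eq_mul.1 e)
      have := mul_mem hc (hcent hca)
      rwa [mul_inv_cancel_left] at this
    have hker : φ.ker.map A.subtype ≤ A ⊓ C := by
      rintro _ ⟨a, ha, rfl⟩
      refine ⟨a.2, hfixmem _ fun w hw => ?_⟩
      have := congrArg Subtype.val (DFunLike.congr_fun (MonoidHom.mem_ker.1 ha)
        (⟨π w, mem_map_of_mem π hw⟩ : C.map π))
      simp only [φ, MonoidHom.comp_apply, MulAut.conjNormal_apply, MulAut.one_apply] at this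
      rw [map_mul, map_mul, map_inv]
      exact this
    have h2 := card_le_of_le hker
    rw [card_map_of_injective A.subtype_injective] at h2
    rw [hA8] at h1
    obtain ⟨a, ha, haC⟩ : ∃ a ∈ A, a ∉ C := by
      by_contra hcon
      push Not at hcon
      obtain ⟨x, hx, y, hy, hxy⟩ := h.nonab
      have hAC : A = C := eq_of_le_of_card_ge hcon (by rw [hA8, h.card])
      exact hxy (hAcomm x (hAC ▸ hx) y (hAC ▸ hy))
    set A₀ := A ⊓ C with hA₀
    have hA04 : Nat.card A₀ = 4 := by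
      have hlt : Nat.card A₀ < 8 := by
        rw [← hA8]
        refine (card_le_of_le inf_le_left).lt_of_ne fun e => haC ?_
        exact ((eq_of_le_of_card_ge inf_le_left e.ge).ge ha).2
      obtain ⟨k, hk⟩ := (hA.to_le (inf_le_left : A₀ ≤ A)).exists_card_eq
      replace hk : Nat.card A₀ = 2 ^ k := hk
      have : k = 2 := by
        rcases Nat.lt_trichotomy k 2 with hlt' | rfl | hgt
        · have : 2 ^ k ≤ 2 ^ 1 := Nat.pow_le_pow_right two_pos (by omega)
          omega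
        · rfl
        · have : 2 ^ 3 ≤ 2 ^ k := Nat.pow_le_pow_right two_pos (by omega)
          omega
      rw [hk, this]; norm_num
    have hzA : z ∈ A := by
      by_contra hzA
      set B := A₀ ⊔ zpowers z with hB
      have hzc : ∀ e ∈ A₀, Commute z e := fun e he =>
        (mem_centralizer_iff.1 h.z_mem.2 e he.2).symm
      have hBc : IsMulCommutative B := isMulCommutative_sup_zpowers
        (⟨⟨fun a b => Subtype.ext (hAcomm a a.2.1 b b.2.1)⟩⟩ : IsMulCommutative A₀) hzc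
      have hBC : B = C := by
        refine eq_of_le_of_card_ge (sup_le inf_le_right (zpowers_le.2 h.z_mem.1)) ?_
        have : 2 * Nat.card A₀ ≤ Nat.card B := two_mul_card_le le_sup_left (mem_sup_right (mem_zpowers z))
          fun hh => hzA hh.1
        rw [h.card]
        omega
      obtain ⟨x, hx, y, hy, hxy⟩ := h.nonab
      exact hxy (congrArg Subtype.val (hBc.is_comm.comm ⟨x, hBC.symm ▸ hx⟩ ⟨y, hBC.symm ▸ hy⟩))
    obtain ⟨u, hu, huZ⟩ : ∃ u ∈ A₀, u ≠ 1 ∧ u ≠ z := by
      by_contra hcon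
      push Not at hcon
      have hs : (A₀ : Set G) ⊆ {1, z} := fun u hu => (em (u = 1)).imp id (fun hne => hcon u hu hne)
      have := (Nat.card_coe_set_eq (A₀ : Set G)).le.trans (Set.ncard_le_ncard hs (Set.toFinite _))
      rw [Set.ncard_pair h.ne.symm] at this
      change Nat.card A₀ ≤ 2 at this
      omega
    have hu2 : u * u = z := hsq u hu.2 huZ
    have hA0mem : ∀ x ∈ A₀, x ≠ 1 ∧ x ≠ z → x = u ∨ x = u * z := fun x hx hxZ => by
      by_contra hne
      push Not at hne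
      exact h.noncommute hu.2 hx.2 huZ hxZ hne (hAcomm u hu.1 x hx.1)
    -- `a²` is central
    have hidx : (A₀.subgroupOf A).index = 2 := by
      have := card_mul_index (A₀.subgroupOf A)
      rw [Nat.card_congr (subgroupOfEquivOfLe (inf_le_left : A₀ ≤ A)).toEquiv, hA04, hA8] at this
      omega
    have ha2 : a * a ∈ A₀ := mul_self_mem_of_index_two hidx (⟨a, ha⟩ : A)
    have ha2z : a * a = 1 ∨ a * a = z := by
      by_contra hne
      push Not at hne
      apply hAnc
      have h4 : (a * a) * (a * a) = z := hsq _ ha2.2 hne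
      have h8 : orderOf a = 2 ^ (2 + 1) := by
        refine orderOf_eq_prime_pow ?_ ?_
        · rw [show (2 : ℕ) ^ 2 = 2 + 2 by norm_num, pow_add, pow_two, h4]
          exact h.ne
        · rw [show (2 : ℕ) ^ (2 + 1) = (2 + 2) + (2 + 2) by norm_num, pow_add, pow_add, pow_two, h4,
            h.z_mul_z]
      refine isCyclic_of_orderOf_eq_card (⟨a, ha⟩ : A) ?_
      rw [Subgroup.orderOf_mk, h8, hA8]
      norm_num
    -- an element `w` of `C` moved by `a` modulo the centre
    obtain ⟨w, hw, hwu⟩ : ∃ w ∈ C, w * u ≠ u * w := by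
      by_contra hcon
      push Not at hcon
      rcases (h.center u).1 ⟨hu.2, mem_centralizer_iff.2 fun v hv => hcon v hv⟩ with e | e
      exacts [huZ.1 e, huZ.2 e]
    have hau : a * u = u * a := hAcomm a ha u hu.1
    set d := a * w * a⁻¹ * w⁻¹ with hd
    have hawC : a * w * a⁻¹ ∈ C := Subgroup.Normal.conj_mem inferInstance w hw a
    have hdu : u * d = d * u := by
      have hnc : u * (a * w * a⁻¹) ≠ a * w * a⁻¹ * u := fun e1 => hwu (by
        have hau' : a⁻¹ * u = u * a⁻¹ := (show Commute a u from hau).inv_left.eq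
        apply mul_left_cancel (a := a)
        apply mul_right_cancel (b := a⁻¹)
        calc a * (w * u) * a⁻¹ = a * w * a⁻¹ * u := by
              rw [mul_assoc, mul_assoc w u, ← hau']; group
          _ = u * (a * w * a⁻¹) := e1.symm
          _ = a * (u * w) * a⁻¹ := by rw [← mul_assoc a u w, hau]; group)
      have e1 := h.comm_eq hu.2 hawC hnc
      have e2 := h.comm_eq hu.2 hw (Ne.symm hwu)
      have hzd : z * (a * w * a⁻¹) = a * w * a⁻¹ * z := (mem_centralizer_iff.1 h.z_mem.2 _ hawC).symm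
      refine mul_inv_eq_iff_eq_mul.1 ?_
      rw [hd, show u * (a * w * a⁻¹ * w⁻¹) * u⁻¹ = (u * (a * w * a⁻¹) * u⁻¹) * (u * w * u⁻¹)⁻¹ by group,
        e1, e2, show z * (a * w * a⁻¹) * (z * w)⁻¹ = z * (a * w * a⁻¹ * w⁻¹) * z⁻¹ by group,
        (mem_centralizer_iff.1 h.z_mem.2 _ (mul_mem hawC (inv_mem hw))).symm, mul_inv_cancel_right]
    have hdC : d ∈ C := mul_mem hawC (inv_mem hw)
    have hdZ : d ≠ 1 ∧ d ≠ z := by
      suffices hne : ¬ (d = 1 ∨ d = z) by exact not_or.1 hne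
      intro hd1
      -- then `a` fixes `C` modulo the centre
      refine haC (hfixmem a fun v hv => ?_)
      have hK : C ≤ (centralizer ({π a} : Set (G ⧸ Z))).comap π := by
        refine h.le_of_noncommute hw hu.2 hwu ?_ ?_
        · rw [mem_comap, mem_centralizer_singleton_iff]
          have : π d = 1 := by
            rw [hπ, QuotientGroup.mk'_apply, QuotientGroup.eq_one_iff]
            exact (h.center d).2 hd1
          rw [hd, map_mul, map_mul, map_mul, map_inv, map_inv, mul_inv_eq_one,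
            mul_inv_eq_iff_eq_mul] at this
          exact this.symm
        · rw [mem_comap, mem_centralizer_singleton_iff, ← map_mul, ← map_mul, hau]
      rw [map_mul, map_mul, map_inv, ← mem_centralizer_singleton_iff.1 (hK hv), mul_inv_cancel_right]
    have hd' : d = u ∨ d = u * z := by
      by_contra hne
      push Not at hne
      exact h.noncommute hu.2 hdC huZ hdZ hne hdu
    have hd2 : d * d = z := hsq d hdC hdZ
    have had : a * d * a⁻¹ = d := by
      rcases hd' with e | e <;> rw [e]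
      · rw [hau, mul_inv_cancel_right]
      · rw [show a * (u * z) * a⁻¹ = (a * u * a⁻¹) * (a * z * a⁻¹) by group, hau, mul_inv_cancel_right,
          hAcomm a ha z hzA, mul_inv_cancel_right]
    have hcen : (a * a) * w * (a * a)⁻¹ = w := by
      rcases ha2z with e | e <;> rw [e]
      · simp
      · rw [← mem_centralizer_iff.1 h.z_mem.2 w hw, mul_inv_cancel_right]
    have haa : (a * a) * w * (a * a)⁻¹ = z * w := by
      calc (a * a) * w * (a * a)⁻¹ = a * (a * w * a⁻¹) * a⁻¹ := by group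
        _ = a * (d * w) * a⁻¹ := by rw [hd, inv_mul_cancel_right]
        _ = (a * d * a⁻¹) * (a * w * a⁻¹) := by group
        _ = d * (d * w) := by rw [had, hd, inv_mul_cancel_right]
        _ = z * w := by rw [← mul_assoc, hd2]
    exact h.ne (mul_eq_right.1 (haa.symm.trans hcen))

theorem center_eq_subgroupOf (X : Subgroup G) :
    Subgroup.center X = (X ⊓ centralizer (X : Set G)).subgroupOf X := by
  ext ⟨x, hx⟩
  rw [mem_center_iff, mem_subgroupOf]
  exact ⟨fun hc => ⟨hx, mem_centralizer_iff.2 fun y hy => congrArg Subtype.val (hc ⟨y, hy⟩)⟩,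
    fun hc y => Subtype.ext (mem_centralizer_iff.1 hc.2 y y.2)⟩

/-- Recognition of the quaternion group of order 8. -/
theorem Eight.quaternion {Y : Subgroup G} {z : G} (h : Eight Y z) {g : G} (hg : Odd (orderOf g))
    (hgY : ∀ w ∈ Y, g * w * g⁻¹ ∈ Y) (hgne : g ∉ centralizer (Y : Set G)) :
    Nonempty (Y ≃* QuaternionGroup 2) := by
  obtain ⟨a, ha, b, hb, hab⟩ := h.nonab
  have haZ : a ≠ 1 ∧ a ≠ z := ⟨fun e => hab (by rw [e, one_mul, mul_one]), fun e => hab (by
    rw [e]; exact (mem_centralizer_iff.1 h.z_mem.2 b hb).symm)⟩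
  have hbZ : b ≠ 1 ∧ b ≠ z := ⟨fun e => hab (by rw [e, one_mul, mul_one]), fun e => hab (by
    rw [e]; exact mem_centralizer_iff.1 h.z_mem.2 a ha)⟩
  have ha2 := h.sq_eq_of_odd hg hgY hgne ha haZ
  have hb2 := h.sq_eq_of_odd hg hgY hgne hb hbZ
  have horda : orderOf a = 2 ^ (1 + 1) := orderOf_eq_prime_pow
    (by rw [pow_one, pow_two, ha2]; exact h.ne)
    (by rw [show (2 : ℕ) ^ (1 + 1) = 2 + 2 by norm_num, pow_add, pow_two, ha2, h.z_mul_z])
  refine PGroup.quaternionEquivOfRel (N := 2) (a := (⟨a, ha⟩ : Y)) (b := ⟨b, hb⟩) ?_ ?_ ?_ ?_ ?_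
  · rw [Subgroup.orderOf_mk, horda]; norm_num
  · intro hmem
    obtain ⟨i, hi⟩ := mem_zpowers_iff.1 hmem
    apply hab
    have : a ^ i = b := congrArg Subtype.val hi
    rw [← this]
    exact ((Commute.refl a).zpow_right i).eq
  · exact Subtype.ext (by push_cast; rw [pow_two, pow_two, ha2, hb2])
  · refine Subtype.ext ?_
    push_cast
    rw [h.comm_eq hb ha (Ne.symm hab)]
    refine eq_inv_of_mul_eq_one_left ?_
    rw [mul_assoc, ha2, h.z_mul_z]
  · rw [h.card]

/-- The structure of the Sylow subgroup. -/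
theorem sylow_structure [Group.IsSolvable G] (hO : Cfsg.pPrimeCore 2 G = ⊥) (h8 : Good (⊤ : Subgroup G))
    (hmin : ∀ R : Subgroup G, R ≠ ⊤ → (∃ k : ℕ, R.index = 2 ^ k) → ¬ Good R) (P : Sylow 2 G) :
    (P : Subgroup G).Normal ∧
      (IsMulCommutative ↥P ∨
        (Cfsg.IsExtraspecial 2 ↥P ∧ 32 ≤ Nat.card ↥P) ∨
        (∃ (X₀ : Subgroup G) (k : ℕ), X₀ ≤ (P : Subgroup G) ∧ X₀.relIndex (P : Subgroup G) = 2 ∧
          Nonempty (↥X₀ ≃* QuaternionGroup (2 ^ (k + 1))) ∧
            X₀ ⊔ ((P : Subgroup G) ⊓ centralizer (X₀ : Set G)) = (P : Subgroup G)) ∨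
        (Cfsg.IsSpecial 2 ↥P ∧ Nat.card ↥(Subgroup.center ↥P) = 4)) := by
  classical
  haveI : Fact (Nat.Prime 2) := ⟨Nat.prime_two⟩
  set Q := Cfsg.pCore 2 G with hQdef
  haveI : Q.Normal := PCore.pCore_normal
  have hQ : IsPGroup 2 Q := PCore.isPGroup_pCore
  have hQmax : ∀ N : Subgroup G, N.Normal → IsPGroup 2 N → N ≤ Q := fun N hN hp => by
    haveI := hN; exact PCore.le_pCore hp
  have hCQ : centralizer (Q : Set G) ≤ Q := SolvableTwo.centralizer_pCore_two_le inferInstance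
    fun M hM hodd => le_bot_iff.1 (le_trans (le_sSup (show M ∈ {N : Subgroup G | N.Normal ∧
      (Nat.card N).Coprime 2} from ⟨hM, Nat.coprime_two_right.2 hodd⟩)) hO.le)
  -- Hall subgroup of odd order
  set e := (Nat.card G).factorization 2 with he
  set m := ordCompl[2] (Nat.card G) with hm
  have hGm : Nat.card G = m * 2 ^ e := by rw [mul_comm]; exact (Nat.ordProj_mul_ordCompl_eq_self _ _).symm
  have hmodd : m.Coprime 2 := (Nat.coprime_ordCompl Nat.prime_two Nat.card_pos.ne').symm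
  obtain ⟨H, hH⟩ := Solvable.exists_hall hGm (hmodd.pow_right e)
  have hHodd : ∀ h ∈ H, Odd (orderOf h) := fun h hh => by
    refine Nat.coprime_two_right.1 (hmodd.coprime_dvd_left (hH ▸ ?_))
    rw [← Subgroup.orderOf_mk h hh]
    exact orderOf_dvd_natCard _
  have hPcard : Nat.card P = 2 ^ e := Sylow.card_eq_multiplicity P
  have hsmall : ∀ Y : Subgroup G, IsPGroup 2 Y → H ≤ normalizer (Y : Set G) → Nat.card Y < 2 ^ e →
      ¬ Good Y := by
    rintro Y hY hHY hlt ⟨A, hA, hA'⟩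
    obtain ⟨k, hk⟩ := hY.exists_card_eq
    have hinf : H ⊓ Y = ⊥ := inf_eq_bot_of_coprime (by rw [hH, hk]; exact hmodd.pow_right k)
    have hcard := Offender.card_sup_mul_card_inf hHY
    rw [hinf, card_bot, mul_one, hH, hk] at hcard
    have hke : k < e := (Nat.pow_lt_pow_iff_right Nat.one_lt_two).1 (hk ▸ hlt)
    have hm0 : 0 < m := Nat.ordCompl_pos 2 Nat.card_pos.ne'
    have hidx : (H ⊔ Y).index = 2 ^ (e - k) := by
      have h1 := card_mul_index (H ⊔ Y)
      rw [hcard, hGm, mul_assoc] at h1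
      have h2 := Nat.eq_of_mul_eq_mul_left hm0 h1
      rw [← Nat.pow_div hke.le two_pos, ← h2, Nat.mul_div_cancel_left _ (pow_pos two_pos k)]
    refine hmin (H ⊔ Y) ?_ ⟨_, hidx⟩ ⟨A, hA.trans le_sup_right, hA'⟩
    intro htop
    rw [htop, index_top] at hidx
    exact (Nat.one_lt_two_pow (by omega : e - k ≠ 0)).ne hidx
  -- `Q` is the Sylow subgroup
  have hQgood : Good Q := by
    by_contra hbad
    obtain ⟨C₀, hCn, hsq, hcent, hodd⟩ := critical_facts hQ hCQ hQmax
    haveI := hCn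
    have h2 := isPGroup_of_small_critical hsq hcent hodd (map_subtype_le C₀) hbad h8
    refine hbad ?_
    have : (⊤ : Subgroup G) ≤ Q := hQmax ⊤ inferInstance (h2.to_subgroup ⊤)
    rwa [top_le_iff.1 this]
  have hQP : Q = (P : Subgroup G) := by
    refine eq_of_le_of_card_ge (PCore.pCore_le_sylow P) ?_
    by_contra hlt
    exact hsmall Q hQ (by rw [normalizer_eq_top]; exact le_top) (by rw [← hPcard]; omega) hQgood
  refine ⟨hQP ▸ inferInstance, ?_⟩
  rw [← hPcard] at hsmall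
  have hsmall' : ∀ Y : Subgroup G, Y < Q → H ≤ normalizer (Y : Set G) → ¬ Good Y := fun Y hY hHY =>
    hsmall Y (hQ.to_le hY.le) hHY ((card_le_of_le (hY.le.trans hQP.le)).lt_of_ne fun e1 =>
      hY.ne ((eq_of_le_of_card_ge (hY.le.trans hQP.le) e1.ge).trans hQP.symm))
  change IsMulCommutative ↥(P : Subgroup G) ∨
    (Cfsg.IsExtraspecial 2 ↥(P : Subgroup G) ∧ 32 ≤ Nat.card ↥(P : Subgroup G)) ∨
    (∃ (X₀ : Subgroup G) (k : ℕ), X₀ ≤ (P : Subgroup G) ∧ X₀.relIndex (P : Subgroup G) = 2 ∧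
      Nonempty (↥X₀ ≃* QuaternionGroup (2 ^ (k + 1))) ∧
        X₀ ⊔ ((P : Subgroup G) ⊓ centralizer (X₀ : Set G)) = (P : Subgroup G)) ∨
    (Cfsg.IsSpecial 2 ↥(P : Subgroup G) ∧ Nat.card ↥(Subgroup.center ↥(P : Subgroup G)) = 4)
  rw [← hQP]
  clear_value Q
  clear hsmall
  by_cases hHbot : H = ⊥
  · left
    obtain ⟨A, hA, hAc, hA'⟩ := hQgood
    rcases eq_or_lt_of_le hA with rfl | hlt
    · exact hAc
    · exact absurd ⟨A, le_rfl, hAc, hA'⟩ (hsmall' A hlt (hHbot ▸ bot_le))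
  have hH1 : ∀ h ∈ H, h ∈ Q → h = 1 := fun h hh hhQ =>
    Balance.eq_one_of_mem_pGroup_of_coprime hQ hhQ (Nat.coprime_two_right.2 (hHodd h hh))
  obtain ⟨C₀, hCn, hsqC, hcentC, hoddC⟩ := critical_facts hQ hCQ hQmax
  haveI := hCn
  have hCX : C₀.map Q.subtype = Q := by
    by_contra hne
    have hlt : C₀.map Q.subtype < Q := lt_of_le_of_ne (map_subtype_le C₀) hne
    have h2 := isPGroup_of_small_critical hsqC hcentC hoddC le_rfl
      (hsmall' _ hlt (by rw [normalizer_eq_top]; exact le_top)) h8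
    refine hHbot (eq_bot_iff.2 fun h hh => mem_bot.2 ?_)
    exact Balance.eq_one_of_mem_pGroup_of_coprime (h2.to_subgroup H) hh (Nat.coprime_two_right.2 (hHodd h hh))
  rw [hCX] at hsqC
  by_cases hab : ∀ x ∈ Q, ∀ y ∈ Q, x * y = y * x
  · exact Or.inl ⟨⟨fun a b => Subtype.ext (hab a a.2 b b.2)⟩⟩
  right
  push Not at hab
  obtain ⟨x₀, hx₀, y₀, hy₀, hxy₀⟩ := hab
  set Z := Q ⊓ centralizer (Q : Set G) with hZ
  have hZQ : Z ≤ Q := inf_le_left
  haveI : Z.Normal := Subgroup.normal_inf_normal _ _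
  have hx₀Z : x₀ ∉ Z := fun hh => hxy₀ (mem_centralizer_iff.1 hh.2 y₀ hy₀).symm
  have hy₀Z : y₀ ∉ Z := fun hh => hxy₀ (mem_centralizer_iff.1 hh.2 x₀ hx₀)
  have hZlt : Z < Q := lt_of_le_of_ne hZQ fun e1 => hx₀Z (e1 ▸ hx₀)
  have hZsmall : ¬ Good Z := hsmall' Z hZlt (by rw [normalizer_eq_top]; exact le_top)
  have hZc : IsMulCommutative Z := isMulCommutative_inf_centralizer
  have hZcases := isCyclic_or_card_four hZsmall le_rfl (hQ.to_le hZQ) hZc
  have hzc : ∀ w ∈ Z, ∀ x ∈ Q, x * w = w * x := fun w hw x hx => mem_centralizer_iff.1 hw.2 x hx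
  have hsqmul : ∀ x ∈ Q, ∀ y ∈ Q, (x * y) * (x * y) = (y * x * y⁻¹ * x⁻¹) * ((x * x) * (y * y)) :=
    fun x hx y hy => hsqC.mul_sq hx hy
  have hcommZ : ∀ x ∈ Q, ∀ y ∈ Q, x * y * x⁻¹ * y⁻¹ ∈ Z := fun x hx y hy =>
    mem_inf.2 ⟨mul_mem (mul_mem (mul_mem hx hy) (inv_mem hx)) (inv_mem hy), hsqC.comm x hx y hy⟩
  have hsqZ : ∀ x ∈ Q, x * x ∈ Z := fun x hx => mem_inf.2 ⟨mul_mem hx hx, hsqC.sq x hx⟩
  -- the derived subgroup
  set D : Subgroup G := ⁅Q, Q⁆ with hD
  haveI hDn : D.Normal := Subgroup.commutator_normal Q Q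
  have hDZ : D ≤ Z := commutator_le.2 fun x hx y hy => hcommZ x hx y hy
  have hD2 : ∀ w ∈ D, w * w = 1 := by
    let E : Subgroup G :=
      { carrier := {w | w ∈ Z ∧ w * w = 1}
        one_mem' := ⟨one_mem _, one_mul 1⟩
        mul_mem' := fun {v w} hv hw => ⟨mul_mem hv.1 hw.1, by
          rw [show v * w * (v * w) = v * (w * v) * w by group, ← hzc w hw.1 v (hZQ hv.1),
            show v * (v * w) * w = (v * v) * (w * w) by group, hv.2, hw.2, one_mul]⟩
        inv_mem' := fun {v} hv => ⟨inv_mem hv.1, by rw [← mul_inv_rev, hv.2, inv_one]⟩ }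
    intro w hw
    exact (commutator_le.2 (show ∀ x ∈ Q, ∀ y ∈ Q, ⁅x, y⁆ ∈ E from
      fun x hx y hy => ⟨hcommZ x hx y hy, hsqC.comm_sq hx hy⟩) hw).2
  have hDmem : ∀ x ∈ Q, ∀ y ∈ Q, x * y * x⁻¹ * y⁻¹ ∈ D := fun x hx y hy =>
    commutator_mem_commutator hx hy
  obtain ⟨z, hzD, hz1⟩ : ∃ z ∈ D, z ≠ 1 := ⟨_, hDmem x₀ hx₀ y₀ hy₀, fun e1 =>
    hxy₀ (mul_inv_eq_iff_eq_mul.1 (mul_inv_eq_one.1 e1))⟩
  have hz2 : z * z = 1 := hD2 z hzD
  have hzZ : z ∈ Z := hDZ hzD
  have hZne : Z ≠ ⊥ := fun h0 => hz1 (mem_bot.1 (h0 ▸ hzZ))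
  obtain ⟨kZ, hkZ⟩ := (hQ.to_le hZQ).exists_card_eq
  replace hkZ : Nat.card Z = 2 ^ kZ := hkZ
  have hgoodB : ∀ (Y : Subgroup G) (t : G), t ∈ Q → t ∉ Z → t * t = 1 → ∀ B₀ ≤ Z, B₀ ≤ Y → t ∈ Y →
      z ∈ B₀ → 4 ≤ Nat.card B₀ → Good Y := by
    intro Y t ht htZ ht2 B₀ hB₀ hB₀Y htY hzB h4
    refine good_of_two_involutions (B := B₀ ⊔ zpowers t) (sup_le hB₀Y (zpowers_le.2 htY))
      (hQ.to_le (sup_le (hB₀.trans hZQ) (zpowers_le.2 ht)))
      (isMulCommutative_sup_zpowers
        ⟨⟨fun a b => Subtype.ext (hzc b (hB₀ b.2) a (hZQ (hB₀ a.2)))⟩⟩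
        fun w hw => hzc w (hB₀ hw) t ht) ?_ (mem_sup_right (mem_zpowers t)) (mem_sup_left hzB) ht2 hz2
      (fun e1 => htZ (e1 ▸ one_mem _)) hz1 fun e1 => htZ (e1 ▸ hzZ)
    exact (by omega : 8 ≤ 2 * Nat.card B₀).trans
      (two_mul_card_le le_sup_left (mem_sup_right (mem_zpowers t)) fun hh => htZ (hB₀ hh))
  have hcenterQ : Subgroup.center Q = Z.subgroupOf Q := center_eq_subgroupOf Q
  have hcardcenter : Nat.card (Subgroup.center Q) = Nat.card Z := by
    rw [hcenterQ, Nat.card_congr (subgroupOfEquivOfLe hZQ).toEquiv]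
  have hfr : frattini Q ≤ Subgroup.center Q := by
    refine PGroup.frattini_le (p := 2) ?_ fun x => ?_
    · rw [hcenterQ, _root_.commutator_def, commutator_le]
      exact fun x _ y _ => mem_subgroupOf.2 (hcommZ x x.2 y y.2)
    · rw [hcenterQ, mem_subgroupOf, pow_two]
      exact hsqZ x x.2
  have hcommQ : (_root_.commutator Q).map Q.subtype = D := by rw [map_subtype_commutator]
  have hspecial : D = Z → Cfsg.IsSpecial 2 Q := by
    intro hDZeq
    have h1 : _root_.commutator Q = Subgroup.center Q := by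
      refine map_injective Q.subtype_injective ?_
      rw [hcommQ, hcenterQ, map_subgroupOf_eq_of_le hZQ, hDZeq]
    exact ⟨hQ, le_antisymm hfr (h1 ▸ PGroup.commutator_le_frattini hQ), h1⟩
  by_cases hZ2 : Nat.card Z = 2
  · -- extraspecial
    left
    have hDeq : D = Z := eq_of_le_of_card_ge hDZ (by
      rw [hZ2]
      exact D.one_lt_card_iff_ne_bot.2 fun h0 => hz1 (mem_bot.1 (h0 ▸ hzD)))
    have hex : Cfsg.IsExtraspecial 2 Q := ⟨hspecial hDeq, by rw [hcardcenter, hZ2]⟩
    refine ⟨hex, ?_⟩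
    obtain ⟨n, hn, hcard, -⟩ := PGroup.extraspecial_card hex
    by_contra hlt
    have hn1 : n = 1 := by
      by_contra hne
      have : 2 ^ 5 ≤ 2 ^ (2 * n + 1) := Nat.pow_le_pow_right two_pos (by omega)
      rw [hcard] at hlt
      omega
    rw [hn1] at hcard
    obtain ⟨A, hA, hAc, -, hA8⟩ := hQgood
    have hAQ := eq_of_le_of_card_ge hA (by rw [hA8, hcard]; norm_num)
    exact hxy₀ (congrArg Subtype.val (hAc.is_comm.comm ⟨x₀, hAQ.symm ▸ hx₀⟩ ⟨y₀, hAQ.symm ▸ hy₀⟩))
  right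
  have hkZ2 : 2 ≤ kZ := by
    have h1 := Z.one_lt_card_iff_ne_bot.2 hZne
    by_contra hlt
    interval_cases kZ <;> omega
  have hZ4 : Nat.card Z = 4 := by
    by_contra hne
    rcases hZcases with hcyc | ⟨h4, -⟩
    swap
    · exact hne h4
    have hk3 : 3 ≤ kZ := by
      by_contra hlt
      have : kZ = 2 := by omega
      exact hne (by rw [hkZ, this]; norm_num)
    -- the elements of exponent four form a proper subgroup
    let Y : Subgroup G :=
      { carrier := {x | x ∈ Q ∧ (x * x) * (x * x) = 1}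
        one_mem' := ⟨one_mem _, by simp⟩
        mul_mem' := fun {x y} hx hy => ⟨mul_mem hx.1 hy.1, by
          have h1 := hsqmul x hx.1 y hy.1
          set c := y * x * y⁻¹ * x⁻¹ with hc
          have hcZ : c ∈ Z := hcommZ y hy.1 x hx.1
          have hc2 : c * c = 1 := hD2 c (hDmem y hy.1 x hx.1)
          have e1 : (x * x) * c = c * (x * x) := hzc c hcZ _ (mul_mem hx.1 hx.1)
          have e2 : (y * y) * c = c * (y * y) := hzc c hcZ _ (mul_mem hy.1 hy.1)
          have e3 : (y * y) * (x * x) = (x * x) * (y * y) := hzc _ (hsqZ x hx.1) _ (mul_mem hy.1 hy.1)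
          rw [h1]
          calc c * ((x * x) * (y * y)) * (c * ((x * x) * (y * y)))
              = c * (x * x) * ((y * y) * c) * ((x * x) * (y * y)) := by group
            _ = c * ((x * x) * c) * ((y * y) * (x * x)) * (y * y) := by rw [e2]; group
            _ = (c * c) * ((x * x) * (x * x)) * ((y * y) * (y * y)) := by rw [e1, e3]; group
            _ = 1 := by rw [hc2, hx.2, hy.2, one_mul, one_mul]⟩
        inv_mem' := fun {x} hx => ⟨inv_mem hx.1, by rw [← mul_inv_rev, ← mul_inv_rev, hx.2, inv_one]⟩ }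
    have hYQ : Y ≤ Q := fun x hx => hx.1
    have hYn : Y.Normal := ⟨fun x hx g => ⟨Subgroup.Normal.conj_mem inferInstance x hx.1 g, by
      rw [show g * x * g⁻¹ * (g * x * g⁻¹) * (g * x * g⁻¹ * (g * x * g⁻¹)) =
        g * ((x * x) * (x * x)) * g⁻¹ by group, hx.2, mul_one, mul_inv_cancel]⟩⟩
    obtain ⟨c, hc⟩ := hcyc.exists_generator
    have hordc : orderOf (c : G) = 2 ^ kZ := by
      rw [Subgroup.orderOf_coe, orderOf_eq_card_of_forall_mem_zpowers hc, hkZ]
    have hYlt : Y < Q := lt_of_le_of_ne hYQ fun e1 => by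
      have h1 : (c : G) ∈ Y := e1 ▸ hZQ c.2
      have h2 : (c : G) ^ 4 = 1 := by rw [show 4 = 2 + 2 from rfl, pow_add, pow_two]; exact h1.2
      have h3 := Nat.le_of_dvd (by norm_num) (orderOf_dvd_of_pow_eq_one h2)
      have : 2 ^ 3 ≤ 2 ^ kZ := Nat.pow_le_pow_right two_pos hk3
      omega
    apply hsmall' Y hYlt (by rw [normalizer_eq_top_iff.2 hYn]; exact le_top)
    obtain ⟨t, ht, htZ, ht2⟩ := hsqC.exists_involution hcyc
      (by rw [hkZ]; exact (Nat.pow_le_pow_right two_pos hkZ2 : 2 ^ 2 ≤ 2 ^ kZ)) hx₀ hy₀ hxy₀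
    refine hgoodB Y t ht htZ ht2 (Z ⊓ Y) inf_le_left inf_le_right
      ⟨ht, by rw [ht2, one_mul]⟩ ⟨hzZ, hZQ hzZ, by rw [hz2, one_mul]⟩ ?_
    set d := (c : G) ^ 2 ^ (kZ - 2) with hd
    have hd4 : orderOf d = 4 := by
      rw [hd, orderOf_pow_of_dvd (by positivity) (hordc ▸ pow_dvd_pow 2 (by omega)), hordc,
        Nat.pow_div (by omega) two_pos, show kZ - (kZ - 2) = 2 by omega]
      norm_num
    have hdY : d ∈ Z ⊓ Y := ⟨pow_mem c.2 _, hZQ (pow_mem c.2 _), by
      rw [← mul_assoc, ← pow_two, ← pow_succ, ← pow_succ, show 2 + 1 + 1 = orderOf d by rw [hd4], pow_orderOf_eq_one]⟩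
    calc 4 = Nat.card (zpowers d) := by rw [Nat.card_zpowers, hd4]
      _ ≤ Nat.card ↥(Z ⊓ Y) := card_le_of_le (zpowers_le.2 hdY)
  by_cases hDeq : D = Z
  · exact Or.inr ⟨hspecial hDeq, by rw [hcardcenter, hZ4]⟩
  left
  -- `D = {1, z}`
  have hDcard : Nat.card D = 2 := by
    have h1 := D.one_lt_card_iff_ne_bot.2 fun h0 => hz1 (mem_bot.1 (h0 ▸ hzD))
    have h2 : Nat.card D < 4 := hZ4 ▸ (card_le_of_le hDZ).lt_of_ne fun e1 =>
      hDeq (eq_of_le_of_card_ge hDZ e1.ge)
    have h3 : Nat.card D ∣ 4 := hZ4 ▸ card_dvd_of_le hDZ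
    interval_cases h : Nat.card D <;> omega
  have hDtwo : ∀ w ∈ D, w = 1 ∨ w = z := by
    have : ({1, z} : Set G) = (D : Set G) := Set.eq_of_subset_of_ncard_le
      (by rintro _ (rfl | rfl) <;> [exact one_mem _; exact hzD])
      (by rw [Set.ncard_pair hz1.symm, ← Nat.card_coe_set_eq]; exact hDcard.le)
    intro w hw
    rw [← SetLike.mem_coe, ← this] at hw; exact hw
  have hidxD : (D.subgroupOf Z).index = 2 := by
    have := card_mul_index (D.subgroupOf Z)
    rw [Nat.card_congr (subgroupOfEquivOfLe hDZ).toEquiv, hDcard, hZ4] at this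
    omega
  have htwo : ∀ v ∈ Z, ∀ w ∈ Z, v ∉ D → w ∉ D → v * w ∈ D := fun v hv w hw h1 h2 =>
    ((mul_mem_iff_of_index_two hidxD (a := (⟨v, hv⟩ : Z)) (b := ⟨w, hw⟩)).2 (iff_of_false h1 h2) :)
  -- squares lie in `D`
  have hsqD : ∀ x ∈ Q, x * x ∈ D := by
    let K : Subgroup G :=
      { carrier := {x | x ∈ Q ∧ x * x ∈ D}
        one_mem' := ⟨one_mem _, by rw [one_mul]; exact one_mem _⟩
        mul_mem' := fun {x y} hx hy => ⟨mul_mem hx.1 hy.1, by
          rw [hsqmul x hx.1 y hy.1]; exact mul_mem (hDmem y hy.1 x hx.1) (mul_mem hx.2 hy.2)⟩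
        inv_mem' := fun {x} hx => ⟨inv_mem hx.1, by rw [← mul_inv_rev]; exact inv_mem hx.2⟩ }
    have hKQ : K ≤ Q := fun x hx => hx.1
    have hKn : K.Normal := ⟨fun x hx g => ⟨Subgroup.Normal.conj_mem inferInstance x hx.1 g, by
      rw [show g * x * g⁻¹ * (g * x * g⁻¹) = g * (x * x) * g⁻¹ by group]
      exact hDn.conj_mem _ hx.2 g⟩⟩
    by_contra hcon
    have hKlt : K < Q := lt_of_le_of_ne hKQ fun e1 => hcon fun x hx => (e1.ge hx).2
    have hKsmall := hsmall' K hKlt (by rw [normalizer_eq_top_iff.2 hKn]; exact le_top)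
    have hZK : Z ≤ K := by
      intro w hw
      refine ⟨hZQ hw, ?_⟩
      by_contra hwD
      have hw4 : (w * w) * (w * w) = 1 := by
        have := pow_card_eq_one' (x := (⟨w, hw⟩ : Z))
        rw [hZ4, show 4 = 2 + 2 from rfl, pow_add, pow_two] at this
        exact congrArg Subtype.val this
      rcases hZcases with hcyc | ⟨-, a, ha, b, hb, ha2, hb2, ha1, hb1, hab'⟩
      · exact not_isCyclic_of_two_involutions (mul_mem hw hw) hzZ hw4 hz2
          (fun e1 => hwD (e1.symm ▸ one_mem _)) hz1 (fun e1 => hwD (e1.symm ▸ hzD)) hcyc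
      · -- a four-group has exponent two
        have hnc := not_isCyclic_of_two_involutions ha hb ha2 hb2 ha1 hb1 hab'
        refine hnc (isCyclic_of_orderOf_eq_card (⟨w, hw⟩ : Z) ?_)
        rw [Subgroup.orderOf_mk, hZ4]
        refine orderOf_eq_prime_pow (p := 2) (n := 1) ?_ ?_
        · rw [pow_one, pow_two]; exact fun e1 => hwD (e1.symm ▸ one_mem _)
        · rw [show (2 : ℕ) ^ (1 + 1) = 2 + 2 by norm_num, pow_add, pow_two, hw4]
    -- an element of `K` outside `Z`
    obtain ⟨x, hx, hxZ⟩ : ∃ x ∈ K, x ∉ Z := by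
      by_contra hcon'
      push Not at hcon'
      have hout : ∀ x ∈ Q, x ∉ Z → x * x ∉ D := fun x hx hxZ hD' => hxZ (hcon' x ⟨hx, hD'⟩)
      have : x₀ * y₀ ∈ Z := hcon' _ ⟨mul_mem hx₀ hy₀, by
        rw [hsqmul x₀ hx₀ y₀ hy₀]
        exact mul_mem (hDmem y₀ hy₀ x₀ hx₀) (htwo _ (hsqZ x₀ hx₀) _ (hsqZ y₀ hy₀)
          (hout x₀ hx₀ hx₀Z) (hout y₀ hy₀ hy₀Z))⟩
      have h1 := hzc _ this x₀ hx₀
      rw [mul_assoc x₀ y₀ x₀] at h1
      exact hxy₀ (mul_left_cancel h1)
    apply hKsmall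
    -- find an involution in `x Z`
    rcases hDtwo _ hx.2 with e1 | e1
    · exact hgoodB K x hx.1 hxZ e1 Z le_rfl hZK hx hzZ hZ4.ge
    rcases hZcases with hcyc | ⟨-, a, ha, b, hb, ha2, hb2, ha1, hb1, hab'⟩
    · obtain ⟨c, hc⟩ := hcyc.exists_generator
      have hc4 : orderOf (c : G) = 4 := by
        rw [Subgroup.orderOf_coe, orderOf_eq_card_of_forall_mem_zpowers hc, hZ4]
      have hcc : (c : G) * c = z := by
        have hne : (c : G) * c ≠ 1 := fun e2 => by
          have := Nat.le_of_dvd (by norm_num) (orderOf_dvd_of_pow_eq_one ((pow_two _).trans e2))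
          omega
        rcases hDtwo _ (hZK c.2).2 with e2 | e2
        exacts [absurd e2 hne, e2]
      refine hgoodB K (x * c) (mul_mem hx.1 (hZQ c.2)) (fun hh => hxZ ?_) ?_ Z le_rfl hZK
        (mul_mem hx (hZK c.2)) hzZ hZ4.ge
      · have := mul_mem hh (inv_mem c.2)
        rwa [mul_inv_cancel_right] at this
      · rw [show x * c * (x * c) = x * ((c : G) * x) * c by group, ← hzc _ c.2 x hx.1,
          show x * (x * c) * c = (x * x) * ((c : G) * c) by group, e1, hcc, hz2]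
    · have hB : IsPGroup 2 ↥(Z ⊔ zpowers x) := hQ.to_le (sup_le hZQ (zpowers_le.2 hx.1))
      refine good_of_two_involutions (sup_le hZK (zpowers_le.2 hx)) hB
        (isMulCommutative_sup_zpowers hZc fun w hw => hzc w hw x hx.1) ?_
        (mem_sup_left ha) (mem_sup_left hb) ha2 hb2 ha1 hb1 hab'
      exact (by omega : 8 ≤ 2 * Nat.card Z).trans
        (two_mul_card_le le_sup_left (mem_sup_right (mem_zpowers x)) hxZ)
  -- an element of `Z` outside `D`, and a hyperplane avoiding it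
  obtain ⟨c, hcZ, hcD⟩ : ∃ c ∈ Z, c ∉ D := SetLike.exists_of_lt (lt_of_le_of_ne hDZ hDeq)
  have hcc : c * c ∈ D := hsqD c (hZQ hcZ)
  obtain ⟨M, ⟨hDM, hMQ, hcM⟩, hMmax⟩ :=
    (Set.toFinite {M : Subgroup G | D ≤ M ∧ M ≤ Q ∧ c ∉ M}).exists_maximal ⟨D, le_rfl, hDZ.trans hZQ, hcD⟩
  have hswap : ∀ x ∈ Q, ∀ m ∈ M, x * m * x⁻¹ ∈ M := fun x hx m hm => by
    have := mul_mem (hDM (hDmem x hx m (hMQ hm))) hm
    rwa [inv_mul_cancel_right] at this
  have hMc : ∀ x ∈ Q, x ∉ M → x * c ∈ M := by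
    intro x hx hxM
    let K : Subgroup G :=
      { carrier := {y | y ∈ M ∨ y * x⁻¹ ∈ M}
        one_mem' := Or.inl (one_mem _)
        mul_mem' := by
          have hx2 : x * x ∈ M := hDM (hsqD x hx)
          rintro a b (ha | ha) (hb | hb)
          · exact Or.inl (mul_mem ha hb)
          · exact Or.inr (by rw [mul_assoc]; exact mul_mem ha hb)
          · refine Or.inr ?_
            rw [show a * b * x⁻¹ = (a * x⁻¹) * (x * b * x⁻¹) by group]
            exact mul_mem ha (hswap x hx b hb)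
          · refine Or.inl ?_
            rw [show a * b = (a * x⁻¹) * (x * (b * x⁻¹) * x⁻¹) * (x * x) by group]
            exact mul_mem (mul_mem ha (hswap x hx _ hb)) hx2
        inv_mem' := by
          have hx2 : x * x ∈ M := hDM (hsqD x hx)
          rintro a (ha | ha)
          · exact Or.inl (inv_mem ha)
          · refine Or.inr ?_
            rw [show a⁻¹ * x⁻¹ = x⁻¹ * (a * x⁻¹)⁻¹ * x * (x * x)⁻¹ by group]
            refine mul_mem ?_ (inv_mem hx2)
            simpa using hswap x⁻¹ (inv_mem hx) _ (inv_mem ha) }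
    have hMK : M ≤ K := fun y hy => Or.inl hy
    have hKQ : K ≤ Q := by
      rintro y (hy | hy)
      · exact hMQ hy
      · have := mul_mem (hMQ hy) hx; rwa [inv_mul_cancel_right] at this
    have hcK : c ∈ K := by
      by_contra hcK
      exact hxM (hMmax ⟨hDM.trans hMK, hKQ, hcK⟩ hMK (Or.inr (by rw [mul_inv_cancel]; exact one_mem _) : x ∈ K))
    rcases hcK with h1 | h1
    · exact absurd h1 hcM
    · have := mul_mem (inv_mem h1) (hDM hcc)
      rwa [show (c * x⁻¹)⁻¹ * (c * c) = x * c by group] at this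
  let f : G → ZMod 2 := fun x => if x ∈ M then 0 else 1
  have hf : ∀ x ∈ Q, ∀ y ∈ Q, f (x * y) = f x + f y := by
    intro x hx y hy
    by_cases h1 : x ∈ M <;> by_cases h2 : y ∈ M
    · simp [f, h1, h2, mul_mem h1 h2]
    · have h3 : x * y ∉ M := fun h => h2 (by have := mul_mem (inv_mem h1) h; rwa [inv_mul_cancel_left] at this)
      simp [f, h1, h2, h3]
    · have h3 : x * y ∉ M := fun h => h1 (by have := mul_mem h (inv_mem h2); rwa [mul_inv_cancel_right] at this)
      simp [f, h1, h2, h3]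
    · have h3 : x * y ∈ M := by
        have h4 := mul_mem (mul_mem (hMc x hx h1) (hMc y hy h2)) (inv_mem (hDM hcc))
        rwa [show x * c * (y * c) = x * (c * y) * c by group, ← hzc c hcZ y hy,
          show x * (y * c) * c * (c * c)⁻¹ = x * y by group] at h4
      have h4 : (1 : ZMod 2) + 1 = 0 := zmod_two_one_add_one
      simp [f, h1, h2, h3, h4]
  haveI : Fintype H := Fintype.ofFinite H
  have hQconj : ∀ (h : G), ∀ x ∈ Q, h * x * h⁻¹ ∈ Q := fun h x hx => Subgroup.Normal.conj_mem inferInstance x hx h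
  let F : G → ZMod 2 := fun x => ∑ h : H, f ((h : G) * x * (h : G)⁻¹)
  have hF : ∀ x ∈ Q, ∀ y ∈ Q, F (x * y) = F x + F y := fun x hx y hy => by
    simp only [F, ← Finset.sum_add_distrib]
    refine Finset.sum_congr rfl fun h _ => ?_
    rw [← hf _ (hQconj _ x hx) _ (hQconj _ y hy)]
    congr 1
    group
  have hF1 : F 1 = 0 := by simp [F, f, one_mem M]
  let Y : Subgroup G :=
    { carrier := {x | x ∈ Q ∧ F x = 0}
      one_mem' := ⟨one_mem _, hF1⟩
      mul_mem' := fun {x y} hx hy => ⟨mul_mem hx.1 hy.1, by rw [hF x hx.1 y hy.1, hx.2, hy.2, add_zero]⟩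
      inv_mem' := fun {x} hx => ⟨inv_mem hx.1, by
        have := hF x hx.1 x⁻¹ (inv_mem hx.1)
        rw [mul_inv_cancel, hF1, hx.2, zero_add] at this
        exact this.symm⟩ }
  have hYQ : Y ≤ Q := fun x hx => hx.1
  have hHY : H ≤ normalizer (Y : Set G) := by
    have hinv : ∀ h ∈ H, ∀ x ∈ Y, h * x * h⁻¹ ∈ Y := fun h hh x hx => by
      refine ⟨hQconj h x hx.1, ?_⟩
      rw [← hx.2]
      refine Fintype.sum_equiv (Equiv.mulRight (⟨h, hh⟩ : H)) _ _ fun k => ?_
      show f _ = f _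
      congr 1
      simp only [Equiv.coe_mulRight, Subgroup.coe_mul]
      group
    intro h hh
    refine mem_normalizer_iff.2 fun x => ⟨fun hx => hinv h hh x hx, fun hx => ?_⟩
    have := hinv h⁻¹ (inv_mem hh) _ hx
    rwa [show h⁻¹ * (h * x * h⁻¹) * h⁻¹⁻¹ = x by group] at this
  have hfD : ∀ h : G, ∀ w ∈ D, f (h * w * h⁻¹) = 0 := fun h w hw => if_pos (hDM (hDn.conj_mem w hw h))
  have hzY : z ∈ Y := ⟨hZQ hzZ, Finset.sum_eq_zero fun h _ => hfD h z hzD⟩
  have hFc : F c = 1 := by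
    have h1 : ∀ h : G, f (h * c * h⁻¹) = 1 := fun h => if_neg fun hh => by
      have hc' : h * c * h⁻¹ ∈ Z := Subgroup.Normal.conj_mem inferInstance c hcZ h
      have hc'D : h * c * h⁻¹ ∉ D := fun hD' => hcD (by
        have := hDn.conj_mem _ hD' h⁻¹
        rwa [show h⁻¹ * (h * c * h⁻¹) * h⁻¹⁻¹ = c by group] at this)
      have h2 := mul_mem (inv_mem hh) (hDM (htwo _ hc' c hcZ hc'D hcD))
      rw [inv_mul_cancel_left] at h2
      exact hcM h2
    simp only [F, h1, Finset.sum_const, Finset.card_univ, nsmul_eq_mul, mul_one]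
    rw [← Nat.card_eq_fintype_card, hH]
    obtain ⟨l, hl⟩ := Nat.coprime_two_right.1 hmodd
    rw [hl]
    push_cast
    rw [zmod_two_two, zero_mul, zero_add]
  have hcY : c ∉ Y := fun hh => by
    have := hh.2
    rw [hFc] at this
    exact one_ne_zero this
  have hsplit : ∀ x ∈ Q, x ∉ Y → x * c ∈ Y := fun x hx hxY => by
    refine ⟨mul_mem hx (hZQ hcZ), ?_⟩
    rw [hF x hx c (hZQ hcZ), hFc]
    have : F x ≠ 0 := fun e1 => hxY ⟨hx, e1⟩
    exact zmod_two_add_one _ this
  have hYlt : Y < Q := lt_of_le_of_ne hYQ fun e1 => hcY (e1 ▸ hZQ hcZ)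
  have hYsmall := hsmall' Y hYlt hHY
  -- elements commuting with `Y` commute with `Q`
  have hcomm_all : ∀ g : G, g ∈ centralizer (Y : Set G) → g * c = c * g → g ∈ centralizer (Q : Set G) := by
    intro g hgY hgc
    refine mem_centralizer_iff.2 fun x hx => ?_
    by_cases hxY : x ∈ Y
    · exact mem_centralizer_iff.1 hgY x hxY
    · have h2 := mem_centralizer_iff.1 hgY _ (hsplit x hx hxY)
      rw [mul_assoc, ← hgc, ← mul_assoc, ← mul_assoc] at h2
      exact mul_right_cancel h2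
  have hZY : ∀ w ∈ Z, w ∈ Y → w = 1 ∨ w = z := fun w hw hwY => by
    by_cases hwD : w ∈ D
    · exact hDtwo w hwD
    · have h1 : w * c ∈ Y := by
        rcases hDtwo _ (htwo w hw c hcZ hwD hcD) with e1 | e1 <;> rw [e1]
        exacts [one_mem _, hzY]
      exact absurd (by have := mul_mem (inv_mem hwY) h1; rwa [inv_mul_cancel_left] at this) hcY
  have hcentY : ∀ w, w ∈ Y ⊓ centralizer (Y : Set G) ↔ w = 1 ∨ w = z := by
    refine fun w => ⟨fun hw => hZY w ⟨hw.1.1, hcomm_all w hw.2 (hzc c hcZ w hw.1.1)⟩ hw.1, ?_⟩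
    rintro (rfl | rfl)
    · exact one_mem _
    · exact ⟨hzY, centralizer_le hYQ hzZ.2⟩
  have hsqY : Sq Y :=
    ⟨hQ.to_le hYQ, fun x hx => centralizer_le hYQ (hsqC.sq x hx.1),
      fun x hx y hy => centralizer_le hYQ (hsqC.comm x hx.1 y hy.1)⟩
  have hYnon : ∃ x ∈ Y, ∃ y ∈ Y, x * y ≠ y * x := by
    by_contra hcon
    push Not at hcon
    have hin : ∀ y ∈ Y, y ∈ centralizer (Q : Set G) := fun y hy =>
      hcomm_all y (mem_centralizer_iff.2 fun v hv => hcon v hv y hy) (hzc c hcZ y hy.1)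
    refine hxy₀ ?_
    by_cases hxY : x₀ ∈ Y
    · exact (mem_centralizer_iff.1 (hin _ hxY) y₀ hy₀).symm
    · have h1 := mem_centralizer_iff.1 (hin _ (hsplit x₀ hx₀ hxY)) y₀ hy₀
      rw [mul_assoc x₀ c y₀, ← hzc c hcZ y₀ hy₀, ← mul_assoc, ← mul_assoc] at h1
      exact (mul_right_cancel h1).symm
  have hE : Eight Y z := hsqY.eight_of_card_two hcentY hz1 le_rfl hYsmall hYnon
  -- some element of `H` moves `Y`
  obtain ⟨h, hh, hhY⟩ : ∃ h ∈ H, h ∉ centralizer (Y : Set G) := by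
    by_contra hcon
    push Not at hcon
    refine hHbot (eq_bot_iff.2 fun h hh => mem_bot.2 (hH1 h hh (hCQ (hcomm_all h (hcon h hh) ?_))))
    have hhz : h * z = z * h := by
      rcases hDtwo _ (hDn.conj_mem z hzD h) with e1 | e1
      · exact absurd (conj_eq_one_iff.1 e1) hz1
      · exact mul_inv_eq_iff_eq_mul.1 e1
    refine hE.commute_of_odd_fix (hHodd h hh) hhz ?_
    have hc' : h * c * h⁻¹ ∈ Z := Subgroup.Normal.conj_mem inferInstance c hcZ h
    have hc'D : h * c * h⁻¹ ∉ D := fun hD' => hcD (by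
      have := hDn.conj_mem _ hD' h⁻¹
      rwa [show h⁻¹ * (h * c * h⁻¹) * h⁻¹⁻¹ = c by group] at this)
    have hcD' : c⁻¹ ∉ D := fun h0 => hcD (by simpa using inv_mem h0)
    rcases hDtwo _ (htwo _ hc' _ (inv_mem hcZ) hc'D hcD') with e1 | e1
    · exact Or.inl (mul_inv_eq_one.1 e1)
    · exact Or.inr (mul_inv_eq_iff_eq_mul.1 e1)
  refine ⟨Y, 0, hYQ, ?_, ?_, ?_⟩
  · refine index_eq_two_iff.2 ⟨⟨c, hZQ hcZ⟩, fun b => ?_⟩
    by_cases hb : (b : G) ∈ Y
    · exact Or.inr ⟨hb, fun h1 => hcY (by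
        have := mul_mem (inv_mem hb) (mem_subgroupOf.1 h1)
        rwa [Subgroup.coe_mul, inv_mul_cancel_left] at this)⟩
    · exact Or.inl ⟨mem_subgroupOf.2 (hsplit b b.2 hb), hb⟩
  · exact hE.quaternion (hHodd h hh) (fun w hw => (mem_normalizer_iff.1 (hHY hh) w).1 hw) hhY
  · refine le_antisymm (sup_le hYQ inf_le_left) fun x hx => ?_
    have hcC : c ∈ Q ⊓ centralizer (Y : Set G) := ⟨hZQ hcZ, centralizer_le hYQ hcZ.2⟩
    by_cases hxY : x ∈ Y
    · exact mem_sup_left hxY
    · have h1 := mul_mem (mem_sup_left (hsplit x hx hxY) : x * c ∈ Y ⊔ (Q ⊓ centralizer (Y : Set G)))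
        (inv_mem (mem_sup_right hcC))
      rwa [mul_inv_cancel_right] at h1

end Cfsg.Agent.SmallAbelian
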