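import Cfsg.Agent.Lib.PGroup.UniqueOrderP
import Cfsg.Agent.Lib.PComplement.ThompsonTwo

/-!
# 2-groups of class two without noncyclic abelian subgroups of order 8

`Good R`: `R` has a noncyclic abelian subgroup of order 8.

* `good_of_two_involutions`
* `Sq C`: squares and commutators of `C` lie in `Z(C) = C ∩ C(C)`; `small_cases`: cyclic centre, or
  a four-group, or order 8 with centre of order 2
* `Eight C z`: nonabelian of order 8; `cosets`, `mem_of_fix_mod`, `commute_of_odd_fix_mod`, `sq_eq_of_odd`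
-/

set_option autoImplicit false

namespace Cfsg.Agent.SmallAbelian

open Subgroup

variable {G : Type*} [Group G]

/-- `R` contains a noncyclic abelian subgroup of order 8. -/
def Good (R : Subgroup G) : Prop :=
  ∃ A : Subgroup G, A ≤ R ∧ IsMulCommutative ↥A ∧ ¬ IsCyclic ↥A ∧ Nat.card ↥A = 8

theorem not_isCyclic_of_two_involutions [Finite G] {A : Subgroup G} {x y : G} (hx : x ∈ A) (hy : y ∈ A)
    (hx2 : x * x = 1) (hy2 : y * y = 1) (hx1 : x ≠ 1) (hy1 : y ≠ 1) (hxy : x ≠ y) : ¬ IsCyclic A := by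
  classical
  intro hc
  haveI : Fintype A := Fintype.ofFinite _
  have h := IsCyclic.card_pow_eq_one_le (α := A) (n := 2) two_pos
  have h3 : ({1, ⟨x, hx⟩, ⟨y, hy⟩} : Finset A) ⊆ Finset.univ.filter fun a : A => a ^ 2 = 1 := by
    intro a ha
    simp only [Finset.mem_insert, Finset.mem_singleton] at ha
    refine Finset.mem_filter.2 ⟨Finset.mem_univ _, ?_⟩
    rcases ha with rfl | rfl | rfl
    · exact one_pow 2
    · exact Subtype.ext (by rw [sq]; exact hx2)
    · exact Subtype.ext (by rw [sq]; exact hy2)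
  have h4 := (Finset.card_le_card h3).trans h
  rw [Finset.card_insert_of_notMem (by simp [Subtype.ext_iff, Ne.symm hx1, Ne.symm hy1]),
    Finset.card_pair (by simp [hxy])] at h4
  omega

/-- An abelian 2-subgroup of order at least 8 with two involutions makes `R` good. -/
theorem good_of_two_involutions [Finite G] {R B : Subgroup G} (hBR : B ≤ R) (hB : IsPGroup 2 B)
    (hBc : IsMulCommutative B) (h8 : 8 ≤ Nat.card B) {x y : G} (hx : x ∈ B) (hy : y ∈ B)
    (hx2 : x * x = 1) (hy2 : y * y = 1) (hx1 : x ≠ 1) (hy1 : y ≠ 1) (hxy : x ≠ y) : Good R := by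
  have hc : Commute x y := congrArg Subtype.val (hBc.is_comm.comm ⟨x, hx⟩ ⟨y, hy⟩)
  -- the four-group
  let V : Subgroup G :=
    { carrier := {1, x, y, x * y}
      one_mem' := Or.inl rfl
      mul_mem' := by
        have e1 : ∀ a, x * (x * a) = a := fun a => by rw [← mul_assoc, hx2, one_mul]
        have e2 : ∀ a, y * (y * a) = a := fun a => by rw [← mul_assoc, hy2, one_mul]
        have e3 : ∀ a, y * (x * a) = x * (y * a) := fun a => by rw [← mul_assoc, ← hc.eq, mul_assoc]
        rintro a b (rfl | rfl | rfl | rfl) (rfl | rfl | rfl | rfl) <;>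
          simp [mul_assoc, e1, e2, e3, hx2, hy2, hc.eq.symm]
      inv_mem' := by
        have h1 : x⁻¹ = x := inv_eq_of_mul_eq_one_right hx2
        have h2 : y⁻¹ = y := inv_eq_of_mul_eq_one_right hy2
        rintro a (rfl | rfl | rfl | rfl) <;> simp [h1, h2, hc.eq.symm] }
  have hVB : V ≤ B := by
    rintro a (rfl | rfl | rfl | rfl)
    exacts [one_mem _, hx, hy, mul_mem hx hy]
  have hV4 : Nat.card (V.subgroupOf B) = 2 ^ 2 := by
    rw [Nat.card_congr (subgroupOfEquivOfLe hVB).toEquiv]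
    show Nat.card ({1, x, y, x * y} : Set G) = 4
    have h1 : x * y ≠ 1 := fun e => hxy ((eq_inv_of_mul_eq_one_left e).trans (inv_eq_of_mul_eq_one_right hy2))
    rw [Nat.card_coe_set_eq, Set.ncard_insert_of_notMem (by simp [Ne.symm hx1, Ne.symm hy1, Ne.symm h1])
        (Set.toFinite _),
      Set.ncard_insert_of_notMem (by simp [hxy, hy1]) (Set.toFinite _),
      Set.ncard_pair (fun e => hx1 (mul_eq_right.1 e.symm))]
  obtain ⟨k, hk⟩ := hB.exists_card_eq
  have hk3 : 3 ≤ k := by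
    by_contra hlt
    have : 2 ^ k ≤ 2 ^ 2 := Nat.pow_le_pow_right two_pos (by omega)
    omega
  obtain ⟨K, hK, hVK⟩ := Sylow.exists_subgroup_card_pow_prime_le 2
    (G := B) (n := 2) (m := 3) (hk ▸ pow_dvd_pow 2 hk3) (V.subgroupOf B) hV4 (by omega)
  refine ⟨K.map B.subtype, (map_subtype_le K).trans hBR, ?_, ?_, ?_⟩
  · refine ⟨⟨fun a b => Subtype.ext ?_⟩⟩
    have := congrArg Subtype.val (hBc.is_comm.comm ⟨(a : G), map_subtype_le K a.2⟩
      ⟨(b : G), map_subtype_le K b.2⟩)
    exact this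
  · refine not_isCyclic_of_two_involutions ?_ ?_ hx2 hy2 hx1 hy1 hxy
    · exact ⟨⟨x, hx⟩, hVK (Or.inr (Or.inl rfl)), rfl⟩
    · exact ⟨⟨y, hy⟩, hVK (Or.inr (Or.inr (Or.inl rfl))), rfl⟩
  · rw [card_map_of_injective B.subtype_injective, hK]; norm_num

theorem isMulCommutative_sup_zpowers {Z : Subgroup G} (hZ : IsMulCommutative Z) {x : G}
    (hx : ∀ e ∈ Z, Commute x e) : IsMulCommutative ↥(Z ⊔ zpowers x) := by
  rw [← closure_eq Z, zpowers_eq_closure, ← Subgroup.closure_union]
  refine Subgroup.isMulCommutative_closure ?_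
  rintro a (ha | rfl) b (hb | rfl)
  · exact congrArg Subtype.val (hZ.is_comm.comm ⟨a, ha⟩ ⟨b, hb⟩)
  · exact (hx a ha).eq.symm
  · exact (hx b hb).eq
  · rfl

theorem two_mul_card_le [Finite G] {H K : Subgroup G} (hle : H ≤ K) {x : G} (hx : x ∈ K) (hxH : x ∉ H) :
    2 * Nat.card H ≤ Nat.card K := by
  obtain ⟨m, hm⟩ := card_dvd_of_le hle
  have hlt : Nat.card H < Nat.card K := by
    refine (Nat.le_of_dvd Nat.card_pos (card_dvd_of_le hle)).lt_of_ne fun e => hxH ?_
    rw [eq_of_le_of_card_ge hle e.ge]; exact hx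
  have hm2 : 2 ≤ m := by
    by_contra h
    interval_cases m <;> omega
  calc 2 * Nat.card H ≤ m * Nat.card H := Nat.mul_le_mul_right _ hm2
    _ = Nat.card K := by rw [hm, mul_comm]

/-- An abelian 2-group with all subgroups small: cyclic or a four-group. -/
theorem isCyclic_or_card_four [Finite G] {R Z : Subgroup G} (hR : ¬ Good R) (hZR : Z ≤ R)
    (hZ : IsPGroup 2 Z) (hZc : IsMulCommutative Z) :
    IsCyclic Z ∨ (Nat.card Z = 4 ∧ ∃ x ∈ Z, ∃ y ∈ Z, x * x = 1 ∧ y * y = 1 ∧ x ≠ 1 ∧ y ≠ 1 ∧ x ≠ y) := by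
  by_cases hc : IsCyclic Z
  · exact Or.inl hc
  right
  haveI : Fact (Nat.Prime 2) := ⟨Nat.prime_two⟩
  obtain ⟨k, hk⟩ := hZ.exists_card_eq
  obtain ⟨x, y, hx, hy, hxy⟩ : ∃ x y : Z, orderOf x = 2 ∧ orderOf y = 2 ∧ x ≠ y := by
    have h2 : 2 ∣ Nat.card Z := by
      rcases k with _ | k
      · haveI : Subsingleton Z := (Nat.card_eq_one_iff_unique.1 (by simpa using hk)).1
        exact absurd isCyclic_of_subsingleton hc
      · rw [hk]; exact dvd_pow_self 2 k.succ_ne_zero
    obtain ⟨x, hx⟩ := exists_prime_orderOf_dvd_card' 2 h2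
    by_contra h
    push Not at h
    refine hc (PGroup.isCyclic_of_unique_of_isMulCommutative (p := 2) hZ ?_ hZc)
    intro H K hH hK
    obtain ⟨a, ha⟩ := exists_prime_orderOf_dvd_card' 2 (dvd_of_eq hH.symm)
    obtain ⟨b, hb⟩ := exists_prime_orderOf_dvd_card' 2 (dvd_of_eq hK.symm)
    have hHa : zpowers (a : Z) = H := eq_of_le_of_card_ge (zpowers_le.2 a.2)
      (by rw [Nat.card_zpowers, Subgroup.orderOf_coe, ha, hH])
    have hKb : zpowers (b : Z) = K := eq_of_le_of_card_ge (zpowers_le.2 b.2)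
      (by rw [Nat.card_zpowers, Subgroup.orderOf_coe, hb, hK])
    rw [← hHa, ← hKb, h a b (by rw [Subgroup.orderOf_coe, ha]) (by rw [Subgroup.orderOf_coe, hb])]
  have hsq : ∀ w : Z, orderOf w = 2 → (w : G) * w = 1 ∧ (w : G) ≠ 1 := fun w hw => by
    refine ⟨?_, fun e => ?_⟩
    · have := pow_orderOf_eq_one w
      rw [hw, sq] at this
      exact congrArg Subtype.val this
    · rw [show w = 1 from Subtype.ext e, orderOf_one] at hw
      norm_num at hw
  have hlt : ¬ 8 ≤ Nat.card Z := fun h8 => hR (good_of_two_involutions hZR hZ hZc h8 x.2 y.2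
    (hsq x hx).1 (hsq y hy).1 (hsq x hx).2 (hsq y hy).2 fun e => hxy (Subtype.ext e))
  refine ⟨?_, x, x.2, y, y.2, (hsq x hx).1, (hsq y hy).1, (hsq x hx).2, (hsq y hy).2,
    fun e => hxy (Subtype.ext e)⟩
  have hk2 : k ≤ 2 := by
    by_contra h
    have : 2 ^ 3 ≤ 2 ^ k := Nat.pow_le_pow_right two_pos (by omega)
    omega
  interval_cases k
  · haveI : Subsingleton Z := (Nat.card_eq_one_iff_unique.1 (by simpa using hk)).1
    exact absurd isCyclic_of_subsingleton hc
  · exact absurd (isCyclic_of_prime_card (p := 2) (by simpa using hk)) hc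
  · simpa using hk

/-- Squares and commutators of `C` lie in the centre of `C`. -/
structure Sq (C : Subgroup G) : Prop where
  pgroup : IsPGroup 2 C
  sq : ∀ x ∈ C, x * x ∈ centralizer (C : Set G)
  comm : ∀ x ∈ C, ∀ y ∈ C, x * y * x⁻¹ * y⁻¹ ∈ centralizer (C : Set G)

section Sq

variable {C : Subgroup G}

theorem Sq.comm_sq (h : Sq C) {x y : G} (hx : x ∈ C) (hy : y ∈ C) :
    (x * y * x⁻¹ * y⁻¹) * (x * y * x⁻¹ * y⁻¹) = 1 := by
  have hz := mem_centralizer_iff.1 (h.comm x hx y hy) x hx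
  have h2 := mem_centralizer_iff.1 (h.sq x hx) y hy
  set c := x * y * x⁻¹ * y⁻¹ with hc
  -- conjugation by `x * x` fixes `y`
  have e1 : x * y * x⁻¹ = c * y := by rw [hc, inv_mul_cancel_right]
  have e2 : x * (x * y * x⁻¹) * x⁻¹ = c * (c * y) := by
    rw [e1, ← mul_assoc x c y, hz, mul_assoc c x y, mul_assoc c, e1]
  have e3 : x * (x * y * x⁻¹) * x⁻¹ = y := by
    rw [show x * (x * y * x⁻¹) * x⁻¹ = x * x * y * (x * x)⁻¹ by group, ← h2, mul_inv_cancel_right]
  rw [e3, ← mul_assoc] at e2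
  exact mul_eq_right.1 e2.symm

theorem Sq.mul_sq (h : Sq C) {x y : G} (hx : x ∈ C) (hy : y ∈ C) :
    (x * y) * (x * y) = (y * x * y⁻¹ * x⁻¹) * ((x * x) * (y * y)) := by
  have hz := mem_centralizer_iff.1 (h.comm y hy x hx) x hx
  set c := y * x * y⁻¹ * x⁻¹ with hc
  have e : y * x = c * (x * y) := by rw [hc]; group
  calc (x * y) * (x * y) = x * (y * x) * y := by group
    _ = x * c * (x * y) * y := by rw [e]; group
    _ = c * ((x * x) * (y * y)) := by rw [hz]; group

theorem isMulCommutative_inf_centralizer : IsMulCommutative ↥(C ⊓ centralizer (C : Set G)) :=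
  ⟨⟨fun a b => Subtype.ext (mem_centralizer_iff.1 b.2.2 a a.2.1)⟩⟩

/-- With cyclic centre of order at least 4 and `C` nonabelian, there is an involution outside the centre. -/
theorem Sq.exists_involution [Finite G] (h : Sq C) (hcyc : IsCyclic ↥(C ⊓ centralizer (C : Set G)))
    (h4 : 4 ≤ Nat.card ↥(C ⊓ centralizer (C : Set G))) {x y : G} (hx : x ∈ C) (hy : y ∈ C)
    (hxy : x * y ≠ y * x) :
    ∃ t ∈ C, t ∉ C ⊓ centralizer (C : Set G) ∧ t * t = 1 := by
  set Z := C ⊓ centralizer (C : Set G) with hZ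
  obtain ⟨c, hc⟩ := hcyc.exists_generator
  have hcg : ∀ w ∈ Z, ∃ i : ℤ, (c : G) ^ i = w := fun w hw => by
    obtain ⟨i, hi⟩ := mem_zpowers_iff.1 (hc ⟨w, hw⟩)
    exact ⟨i, by rw [← coe_zpow, hi]⟩
  have hcC : ∀ w ∈ C, Commute w (c : G) := fun w hw => mem_centralizer_iff.1 c.2.2 w hw
  -- an element outside `Z` whose square is an even power of `c` gives an involution
  have key : ∀ w ∈ C, w ∉ Z → ∀ i : ℤ, w * w = (c : G) ^ (2 * i) → ∃ t ∈ C, t ∉ Z ∧ t * t = 1 := by
    intro w hw hwZ i hi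
    refine ⟨w * ((c : G) ^ i)⁻¹, C.mul_mem hw (C.inv_mem (C.zpow_mem c.2.1 i)), fun ht => hwZ ?_, ?_⟩
    · have := mul_mem ht (zpow_mem c.2 i)
      rwa [inv_mul_cancel_right] at this
    · have hcw : Commute w ((c : G) ^ i)⁻¹ := ((hcC w hw).zpow_right i).inv_right
      rw [mul_assoc, ← mul_assoc _ w, ← hcw.eq, mul_assoc w, ← mul_assoc w w, hi, ← zpow_neg,
        ← zpow_add, ← zpow_add, show 2 * i + (-i + -i) = 0 by ring, zpow_zero]
  have hxZ : x ∉ Z := fun hh => hxy (mem_centralizer_iff.1 hh.2 y hy).symm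
  have hyZ : y ∉ Z := fun hh => hxy (mem_centralizer_iff.1 hh.2 x hx)
  have hxyZ : x * y ∉ Z := fun hh => by
    have h1 := mem_centralizer_iff.1 hh.2 x hx
    rw [mul_assoc x y x] at h1
    exact hxy (mul_left_cancel h1)
  obtain ⟨i, hi⟩ := hcg _ ⟨mul_mem hx hx, h.sq x hx⟩
  obtain ⟨j, hj⟩ := hcg _ ⟨mul_mem hy hy, h.sq y hy⟩
  obtain ⟨l, hl⟩ := hcg _ (mem_inf.2 ⟨mul_mem (mul_mem (mul_mem hy hx) (inv_mem hy)) (inv_mem hx), h.comm y hy x hx⟩)
  rcases Int.even_or_odd i with ⟨a, rfl⟩ | ⟨a, rfl⟩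
  · exact key x hx hxZ a (by rw [← hi, two_mul])
  rcases Int.even_or_odd j with ⟨b, rfl⟩ | ⟨b, rfl⟩
  · exact key y hy hyZ b (by rw [← hj, two_mul])
  -- the commutator is an even power of `c`
  have hl2 : (orderOf (c : G) : ℤ) ∣ l + l := by
    rw [orderOf_dvd_iff_zpow_eq_one, zpow_add, hl]
    exact h.comm_sq hy hx
  have horder : orderOf (c : G) = Nat.card Z := by
    rw [Subgroup.orderOf_coe, orderOf_eq_card_of_forall_mem_zpowers hc]
  obtain ⟨k, hk⟩ := (h.pgroup.to_le (inf_le_left : Z ≤ C)).exists_card_eq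
  replace hk : Nat.card Z = 2 ^ k := hk
  have hk4 : (4 : ℤ) ∣ (orderOf (c : G) : ℤ) := by
    have : 2 ≤ k := by
      by_contra hlt
      have hle : 2 ^ k ≤ 2 ^ 1 := Nat.pow_le_pow_right two_pos (by omega)
      rw [← hk, pow_one] at hle
      omega
    rw [horder, hk]
    exact_mod_cast (pow_dvd_pow 2 this : 2 ^ 2 ∣ 2 ^ k)
  have h4l : (4 : ℤ) ∣ l + l := hk4.trans hl2
  obtain ⟨l', rfl⟩ : ∃ l', l = 2 * l' := ⟨l / 2, by omega⟩
  refine key (x * y) (mul_mem hx hy) hxyZ (l' + (a + b + 1)) ?_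
  rw [h.mul_sq hx hy, ← hi, ← hj, ← hl, ← zpow_add, ← zpow_add]
  congr 1
  ring

/-- Nonabelian of order 8 with centre `{1, z}`. -/
structure Eight (C : Subgroup G) (z : G) : Prop extends Sq C where
  card : Nat.card C = 8
  center : ∀ x, x ∈ C ⊓ centralizer (C : Set G) ↔ x = 1 ∨ x = z
  ne : z ≠ 1
  nonab : ∃ x ∈ C, ∃ y ∈ C, x * y ≠ y * x

theorem card_inf_eq_two {z : G} (hz : ∀ x, x ∈ C ⊓ centralizer (C : Set G) ↔ x = 1 ∨ x = z) (hne : z ≠ 1) :
    Nat.card ↥(C ⊓ centralizer (C : Set G)) = 2 := by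
  have e : ((C ⊓ centralizer (C : Set G) : Subgroup G) : Set G) = {1, z} := Set.ext hz
  rw [show Nat.card ↥(C ⊓ centralizer (C : Set G)) =
    Set.ncard ((C ⊓ centralizer (C : Set G) : Subgroup G) : Set G) from
      (Nat.card_coe_set_eq _), e, Set.ncard_pair hne.symm]

theorem Sq.eight_of_card_two [Finite G] (h : Sq C) {z : G}
    (hz : ∀ x, x ∈ C ⊓ centralizer (C : Set G) ↔ x = 1 ∨ x = z) (hne : z ≠ 1) {R : Subgroup G}
    (hCR : C ≤ R) (hR : ¬ Good R) (hnon : ∃ x ∈ C, ∃ y ∈ C, x * y ≠ y * x) : Eight C z := by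
  refine ⟨h, ?_, hz, hne, hnon⟩
  obtain ⟨x, hx, y, hy, hxy⟩ := hnon
  set Z := C ⊓ centralizer (C : Set G) with hZ
  have hz' : z ∈ Z := (hz z).2 (Or.inr rfl)
  have hxZ : x ∉ Z := fun hh => hxy (mem_centralizer_iff.1 hh.2 y hy).symm
  set D := C ⊓ centralizer ({x} : Set G) with hD
  set B := Z ⊔ zpowers x with hB
  have hxc : ∀ e ∈ Z, Commute x e := fun e he => mem_centralizer_iff.1 he.2 x hx
  have hBD : B ≤ D := sup_le (fun e he => ⟨he.1, mem_centralizer_singleton_iff.2 (hxc e he).eq.symm⟩)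
    (zpowers_le.2 ⟨hx, mem_centralizer_singleton_iff.2 rfl⟩)
  have hBc : IsMulCommutative B := isMulCommutative_sup_zpowers isMulCommutative_inf_centralizer hxc
  have hsq : ∀ w ∈ C, w * w = 1 ∨ w * w = z := fun w hw => (hz _).1 ⟨mul_mem hw hw, h.sq w hw⟩
  -- an element commuting with `x` lies in `B`
  have hDB : D ≤ B := by
    intro w hw
    by_contra hwB
    have hwx : Commute w x := mem_centralizer_singleton_iff.1 hw.2
    have hwB' : ∀ e ∈ B, Commute w e := by
      intro e he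
      have : B ≤ centralizer ({w} : Set G) := sup_le
        (fun e he => mem_centralizer_singleton_iff.2 (mem_centralizer_iff.1 he.2 w hw.1).symm)
        (zpowers_le.2 (mem_centralizer_singleton_iff.2 hwx.eq.symm))
      exact (mem_centralizer_singleton_iff.1 (this he)).symm
    have hBC : B ⊔ zpowers w ≤ C := sup_le (hBD.trans inf_le_left) (zpowers_le.2 hw.1)
    have h1 : 2 * Nat.card B ≤ Nat.card ↥(B ⊔ zpowers w) :=
      two_mul_card_le le_sup_left (mem_sup_right (mem_zpowers w)) hwB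
    have h2 : 2 * Nat.card Z ≤ Nat.card B :=
      two_mul_card_le le_sup_left (mem_sup_right (mem_zpowers x)) hxZ
    rw [hZ, card_inf_eq_two hz hne] at h2
    have hzB : z ∈ B := mem_sup_left hz'
    have hxB : x ∈ B := mem_sup_right (mem_zpowers x)
    have hz2 : z * z = 1 := by
      rcases hsq z hz'.1 with e | e
      · exact e
      · exact absurd (mul_eq_left.1 e) hne
    have mk : ∀ t ∈ B ⊔ zpowers w, t * t = 1 → t ∉ Z → Good R := fun t ht ht2 htZ =>
      good_of_two_involutions (hBC.trans hCR) (h.pgroup.to_le hBC)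
        (isMulCommutative_sup_zpowers hBc hwB') (by omega) ht (mem_sup_left hzB) ht2 hz2
        (fun e => htZ (e ▸ one_mem _)) hne fun e => htZ (e ▸ hz')
    refine hR ?_
    rcases hsq x hx with ex | ex
    · exact mk x (mem_sup_left hxB) ex hxZ
    rcases hsq w hw.1 with ew | ew
    · exact mk w (mem_sup_right (mem_zpowers w)) ew fun e => hwB (mem_sup_left e)
    refine mk (x * w) (mul_mem (mem_sup_left hxB) (mem_sup_right (mem_zpowers w))) ?_ fun e => hwB ?_
    · rw [show x * w * (x * w) = x * (w * x) * w by group, hwx.eq,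
        show x * (x * w) * w = (x * x) * (w * w) by group, ex, ew, hz2]
    · have := mul_mem (inv_mem hxB) (mem_sup_left e : x * w ∈ B)
      rwa [inv_mul_cancel_left] at this
  -- the centralizer of `x` has index at most 2 and order at most 4
  have hB4 : Nat.card B ≤ 4 := by
    have hsub : B ≤ centralizer ({x} : Set G) := hBD.trans inf_le_right
    have hset : (B : Set G) ⊆ {1, z, x, x * z} := by
      let K : Subgroup G :=
        { carrier := {1, z, x, x * z}
          one_mem' := Or.inl rfl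
          mul_mem' := by
            have hzx : z * x = x * z := (hxc z hz').eq.symm
            have hz2 : z * z = 1 := by
              rcases hsq z hz'.1 with e | e
              · exact e
              · exact absurd (mul_eq_left.1 e) hne
            have e1 : ∀ a, z * (z * a) = a := fun a => by rw [← mul_assoc, hz2, one_mul]
            have e2 : ∀ a, z * (x * a) = x * (z * a) := fun a => by rw [← mul_assoc, hzx, mul_assoc]
            rcases hsq x hx with ex | ex
            all_goals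
              have e3 : ∀ a, x * (x * a) = (x * x) * a := fun a => (mul_assoc _ _ _).symm
              rintro a b (rfl | rfl | rfl | rfl) (rfl | rfl | rfl | rfl) <;>
                simp [mul_assoc, e1, e2, e3, hzx, hz2, ex]
          inv_mem' := by
            have hzx : z * x = x * z := (hxc z hz').eq.symm
            have hz2 : z * z = 1 := by
              rcases hsq z hz'.1 with e | e
              · exact e
              · exact absurd (mul_eq_left.1 e) hne
            have hzi : z⁻¹ = z := inv_eq_of_mul_eq_one_right hz2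
            rcases hsq x hx with ex | ex
            · have hxi : x⁻¹ = x := inv_eq_of_mul_eq_one_right ex
              rintro a (rfl | rfl | rfl | rfl) <;> simp [hzi, hxi, hzx]
            · have hxi : x⁻¹ = x * z := inv_eq_of_mul_eq_one_right (by rw [← mul_assoc, ex, hz2])
              rintro a (rfl | rfl | rfl | rfl) <;> simp [hzi, hxi]
              right; right; left
              rw [← mul_assoc, hzx, mul_assoc, hz2, mul_one] }
      have : B ≤ K := sup_le (fun e he => by
        rcases (hz e).1 he with rfl | rfl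
        exacts [Or.inl rfl, Or.inr (Or.inl rfl)]) (zpowers_le.2 (Or.inr (Or.inr (Or.inl rfl))))
      exact this
    refine (Nat.card_coe_set_eq _).le.trans ((Set.ncard_le_ncard hset (Set.toFinite _)).trans ?_)
    refine (Set.ncard_insert_le _ _).trans (Nat.succ_le_succ ?_)
    refine (Set.ncard_insert_le _ _).trans (Nat.succ_le_succ ?_)
    exact (Set.ncard_insert_le _ _).trans (by simp)
  have hidx : D.relIndex C ≤ 2 := by
    show (D.subgroupOf C).index ≤ 2
    rw [index_eq_card]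
    -- `w ↦ [w, x]` separates the cosets
    have hcard : Nat.card ({1, z} : Set G) = 2 := by rw [Nat.card_coe_set_eq, Set.ncard_pair hne.symm]
    rw [← hcard]
    refine Nat.card_le_card_of_injective (fun q => ⟨(q.out : G) * x * (q.out : G)⁻¹ * x⁻¹,
      (hz _).1 (mem_inf.2 ⟨mul_mem (mul_mem (mul_mem q.out.2 hx) (inv_mem q.out.2)) (inv_mem hx),
        h.comm _ q.out.2 x hx⟩)⟩) fun q₁ q₂ he => ?_
    have he' : (q₁.out : G) * x * (q₁.out : G)⁻¹ = (q₂.out : G) * x * (q₂.out : G)⁻¹ :=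
      mul_right_cancel (congrArg Subtype.val he)
    rw [← q₁.out_eq', ← q₂.out_eq', QuotientGroup.eq]
    refine mem_subgroupOf.2 ⟨(q₁.out⁻¹ * q₂.out).2, mem_centralizer_singleton_iff.2 ?_⟩
    show (q₁.out : G)⁻¹ * q₂.out * x = x * ((q₁.out : G)⁻¹ * q₂.out)
    calc (q₁.out : G)⁻¹ * q₂.out * x = (q₁.out : G)⁻¹ * ((q₂.out : G) * x * (q₂.out : G)⁻¹) * q₂.out := by
          group
      _ = x * ((q₁.out : G)⁻¹ * q₂.out) := by rw [← he']; group
  have hcardC : Nat.card C ≤ 8 := by
    rw [← relIndex_bot_left C, ← relIndex_mul_relIndex ⊥ D C bot_le inf_le_left, relIndex_bot_left]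
    calc Nat.card D * D.relIndex C ≤ 4 * 2 :=
          Nat.mul_le_mul ((card_le_of_le hDB).trans hB4) hidx
      _ = 8 := rfl
  have h16 : 4 < Nat.card C := by
    have h1 : 2 * Nat.card Z ≤ Nat.card B :=
      two_mul_card_le le_sup_left (mem_sup_right (mem_zpowers x)) hxZ
    have h2 : 2 * Nat.card B ≤ Nat.card C :=
      two_mul_card_le (hBD.trans inf_le_left) hy fun hh => hxy
        (mem_centralizer_singleton_iff.1 (hBD hh).2).symm
    rw [hZ, card_inf_eq_two hz hne] at h1
    omega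
  obtain ⟨k, hk⟩ := h.pgroup.exists_card_eq
  have : k = 3 := by
    rcases Nat.lt_trichotomy k 3 with hlt | rfl | hgt
    · have : 2 ^ k ≤ 2 ^ 2 := Nat.pow_le_pow_right two_pos (by omega)
      omega
    · rfl
    · have : 2 ^ 4 ≤ 2 ^ k := Nat.pow_le_pow_right two_pos (by omega)
      omega
  rw [hk, this]; norm_num

/-- The three possibilities for a small group of class two. -/
theorem Sq.small_cases [Finite G] (h : Sq C) {R : Subgroup G} (hCR : C ≤ R) (hR : ¬ Good R) :
    IsCyclic C ∨ (Nat.card C = 4 ∧ IsMulCommutative C) ∨ ∃ z, Eight C z := by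
  set Z := C ⊓ centralizer (C : Set G) with hZ
  have hZC : Z ≤ C := inf_le_left
  haveI : Fact (Nat.Prime 2) := ⟨Nat.prime_two⟩
  have hcases := isCyclic_or_card_four hR (hZC.trans hCR) (h.pgroup.to_le hZC)
    isMulCommutative_inf_centralizer
  by_cases hab : ∀ x ∈ C, ∀ y ∈ C, x * y = y * x
  · have hCZ : Z = C := le_antisymm hZC fun x hx => ⟨hx, mem_centralizer_iff.2 fun y hy => hab y hy x hx⟩
    rw [hCZ] at hcases
    exact hcases.imp id fun h4 => Or.inl ⟨h4.1, ⟨⟨fun a b => Subtype.ext (hab a a.2 b b.2)⟩⟩⟩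
  push Not at hab
  obtain ⟨x, hx, y, hy, hxy⟩ := hab
  have hxZ : x ∉ Z := fun hh => hxy (mem_centralizer_iff.1 hh.2 y hy).symm
  rcases hcases with hcyc | ⟨h4, a, ha, b, hb, ha2, hb2, ha1, hb1, hab⟩
  · right; right
    by_cases h2 : 4 ≤ Nat.card Z
    · obtain ⟨t, ht, htZ, ht2⟩ := h.exists_involution hcyc h2 hx hy hxy
      have hBC : Z ⊔ zpowers t ≤ C := sup_le hZC (zpowers_le.2 ht)
      obtain ⟨k, hk⟩ := (h.pgroup.to_le hZC).exists_card_eq
      have hk1 : 2 ∣ Nat.card Z := by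
        rcases k with _ | k
        · rw [pow_zero] at hk; omega
        · rw [hk]; exact dvd_pow_self 2 k.succ_ne_zero
      obtain ⟨e, he⟩ := exists_prime_orderOf_dvd_card' 2 hk1
      have he2 : (e : G) * e = 1 := by
        have := pow_orderOf_eq_one e
        rw [he, pow_two] at this
        exact congrArg Subtype.val this
      have he1 : (e : G) ≠ 1 := fun h1 => by
        rw [show e = 1 from Subtype.ext h1, orderOf_one] at he
        norm_num at he
      refine absurd (good_of_two_involutions (hBC.trans hCR) (h.pgroup.to_le hBC)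
        (isMulCommutative_sup_zpowers isMulCommutative_inf_centralizer
          fun e he => mem_centralizer_iff.1 he.2 t ht)
        ((by omega : 8 ≤ 2 * Nat.card Z).trans
          (two_mul_card_le le_sup_left (mem_sup_right (mem_zpowers t)) htZ))
        (mem_sup_right (mem_zpowers t)) (mem_sup_left e.2) ht2 he2
        (fun e => htZ (e ▸ one_mem _)) he1 fun h1 => htZ (h1 ▸ e.2)) hR
    · -- the centre has order two
      obtain ⟨k, hk⟩ := (h.pgroup.to_le hZC).exists_card_eq
      have hne : Z ≠ ⊥ := by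
        intro h0
        haveI : Nontrivial C := ⟨⟨x, hx⟩, 1, fun e => hxZ
          (by rw [show x = 1 from congrArg Subtype.val e]; exact one_mem _)⟩
        haveI := h.pgroup.center_nontrivial
        obtain ⟨⟨c, hc⟩, hc1⟩ := exists_ne (1 : center C)
        refine hc1 (Subtype.ext (Subtype.ext ?_))
        have : (c : G) ∈ Z := ⟨c.2, mem_centralizer_iff.2 fun w hw =>
          congrArg Subtype.val (mem_center_iff.1 hc ⟨w, hw⟩)⟩
        rwa [h0, mem_bot] at this
      have hZ2 : Nat.card Z = 2 := by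
        have h1 := Z.one_lt_card_iff_ne_bot.2 hne
        have : k < 2 := by
          by_contra hge
          have : 2 ^ 2 ≤ 2 ^ k := Nat.pow_le_pow_right two_pos (by omega)
          omega
        interval_cases k <;> omega
      obtain ⟨⟨z, hzZ⟩, hz1⟩ := @exists_ne Z (Finite.one_lt_card_iff_nontrivial.1 (by omega)) 1
      have hz1' : z ≠ 1 := fun e => hz1 (Subtype.ext e)
      have hmem : ∀ w, w ∈ Z ↔ w = 1 ∨ w = z := by
        have : ({1, z} : Set G) = (Z : Set G) := Set.eq_of_subset_of_ncard_le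
          (by rintro _ (rfl | rfl) <;> [exact one_mem _; exact hzZ])
          (by rw [Set.ncard_pair hz1'.symm, ← Nat.card_coe_set_eq]; exact hZ2.le)
        intro w
        rw [← SetLike.mem_coe, ← this]; rfl
      exact ⟨z, h.eight_of_card_two hmem hz1' hCR hR ⟨x, hx, y, hy, hxy⟩⟩
  · have hBC : Z ⊔ zpowers x ≤ C := sup_le hZC (zpowers_le.2 hx)
    refine absurd (good_of_two_involutions (hBC.trans hCR) (h.pgroup.to_le hBC)
      (isMulCommutative_sup_zpowers isMulCommutative_inf_centralizer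
        fun e he => mem_centralizer_iff.1 he.2 x hx) ?_
      (mem_sup_left ha) (mem_sup_left hb) ha2 hb2 ha1 hb1 hab) hR
    refine le_trans ?_ (two_mul_card_le le_sup_left (mem_sup_right (mem_zpowers x)) hxZ)
    omega

end Sq

section Eight

variable {C : Subgroup G} {z : G}

theorem Eight.z_mem (h : Eight C z) : z ∈ C ⊓ centralizer (C : Set G) := (h.center z).2 (Or.inr rfl)

theorem Eight.z_mul_z (h : Eight C z) : z * z = 1 := by
  rcases (h.center _).1 (mul_mem h.z_mem h.z_mem) with e | e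
  · exact e
  · exact absurd (mul_eq_left.1 e) h.ne

theorem Eight.comm_eq (h : Eight C z) {x y : G} (hx : x ∈ C) (hy : y ∈ C) (hne : x * y ≠ y * x) :
    x * y * x⁻¹ = z * y := by
  rcases (h.center _).1 (mem_inf.2 ⟨mul_mem (mul_mem (mul_mem hx hy) (inv_mem hx)) (inv_mem hy),
      h.comm x hx y hy⟩) with e | e
  · exact absurd (mul_inv_eq_iff_eq_mul.1 (mul_inv_eq_one.1 e)) hne
  · exact mul_inv_eq_iff_eq_mul.1 e

/-- `C` is generated by any two of its elements that do not commute. -/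
theorem Eight.le_of_noncommute [Finite G] (h : Eight C z) {K : Subgroup G} {x y : G} (hx : x ∈ C)
    (hy : y ∈ C) (hne : x * y ≠ y * x) (hxK : x ∈ K) (hyK : y ∈ K) : C ≤ K := by
  have hsub : C ⊓ K ≤ C := inf_le_left
  suffices hcard : Nat.card C ≤ Nat.card ↥(C ⊓ K) by
    exact (eq_of_le_of_card_ge hsub hcard).ge.trans inf_le_right
  by_contra hlt
  rw [h.card, not_le] at hlt
  obtain ⟨k, hk⟩ := (h.pgroup.to_le hsub).exists_card_eq
  haveI : Fact (Nat.Prime 2) := ⟨Nat.prime_two⟩
  have hk2 : k ≤ 2 := by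
    by_contra hge
    have : 2 ^ 3 ≤ 2 ^ k := Nat.pow_le_pow_right two_pos (by omega)
    omega
  apply hne
  have hcomm : IsMulCommutative ↥(C ⊓ K) := by
    interval_cases k
    · haveI : Subsingleton ↥(C ⊓ K) := (Nat.card_eq_one_iff_unique.1 (by simpa using hk)).1
      exact ⟨⟨fun _ _ => Subsingleton.elim _ _⟩⟩
    · haveI := isCyclic_of_prime_card (α := ↥(C ⊓ K)) (p := 2) (by simpa using hk)
      infer_instance
    · exact ⟨⟨IsPGroup.commutative_of_card_eq_prime_sq (p := 2) (by simpa using hk)⟩⟩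
  exact congrArg Subtype.val (hcomm.is_comm.comm ⟨x, hx, hxK⟩ ⟨y, hy, hyK⟩)

theorem Eight.noncommute [Finite G] (h : Eight C z) {w u : G} (hw : w ∈ C) (hu : u ∈ C)
    (hwZ : w ≠ 1 ∧ w ≠ z) (hu1 : u ≠ 1 ∧ u ≠ z) (huw : u ≠ w ∧ u ≠ w * z) : w * u ≠ u * w := by
  intro hc
  -- otherwise `{1, z, w, wz, u, …}` is a commutative subgroup with more than four elements
  set B := (C ⊓ centralizer ({w} : Set G)) with hB
  have hwB : w ∈ B := ⟨hw, mem_centralizer_singleton_iff.2 rfl⟩
  have hzB : z ∈ B := ⟨h.z_mem.1, mem_centralizer_singleton_iff.2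
    (mem_centralizer_iff.1 h.z_mem.2 w hw).symm⟩
  have huB : u ∈ B := ⟨hu, mem_centralizer_singleton_iff.2 hc.symm⟩
  have h5 : 4 < Nat.card B := by
    have hs : ({1, z, w, w * z, u} : Set G) ⊆ (B : Set G) := by
      rintro a (rfl | rfl | rfl | rfl | rfl)
      exacts [one_mem _, hzB, hwB, mul_mem hwB hzB, huB]
    have hwz : w * z ≠ 1 := fun e => hwZ.2 ((eq_inv_of_mul_eq_one_left e).trans
      (inv_eq_of_mul_eq_one_right h.z_mul_z))
    have : ({1, z, w, w * z, u} : Set G).ncard = 5 := by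
      rw [Set.ncard_insert_of_notMem (by simp [Ne.symm h.ne, Ne.symm hwZ.1, Ne.symm hu1.1, Ne.symm hwz])
          (Set.toFinite _),
        Set.ncard_insert_of_notMem (by simp [Ne.symm hwZ.2, Ne.symm hu1.2, hwZ.1]) (Set.toFinite _),
        Set.ncard_insert_of_notMem (by simp [Ne.symm huw.1, h.ne]) (Set.toFinite _),
        Set.ncard_pair huw.2.symm]
    have := Set.ncard_le_ncard hs (Set.toFinite _)
    rw [← Nat.card_coe_set_eq (B : Set G)] at this
    change _ ≤ Nat.card B at this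
    omega
  have hBC : B = C := by
    refine eq_of_le_of_card_ge inf_le_left ?_
    obtain ⟨k, hk⟩ := (h.pgroup.to_le (inf_le_left : B ≤ C)).exists_card_eq
    replace hk : Nat.card B = 2 ^ k := hk
    have h3 : 3 ≤ k := by
      by_contra hlt
      have : 2 ^ k ≤ 2 ^ 2 := Nat.pow_le_pow_right two_pos (by omega)
      omega
    rw [h.card, hk]
    exact (Nat.pow_le_pow_right two_pos h3 : 2 ^ 3 ≤ 2 ^ k)
  have hwC : w ∈ C ⊓ centralizer (C : Set G) := ⟨hw, mem_centralizer_iff.2 fun a ha =>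
    mem_centralizer_singleton_iff.1 (hBC.symm ▸ ha : a ∈ B).2⟩
  rcases (h.center w).1 hwC with e | e
  exacts [hwZ.1 e, hwZ.2 e]

/-- An element fixing `C` modulo `Z(C)` lies in `C C(C)`. -/
theorem Eight.mem_of_fix_mod [Finite G] (h : Eight C z) {x : G}
    (hfix : ∀ w ∈ C, x * w * x⁻¹ = w ∨ x * w * x⁻¹ = z * w) :
    ∃ c ∈ C, c⁻¹ * x ∈ centralizer (C : Set G) := by
  obtain ⟨a, ha, b, hb, hab⟩ := h.nonab
  have hzc : ∀ w ∈ C, w * z = z * w := fun w hw => mem_centralizer_iff.1 h.z_mem.2 w hw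
  have hcent : ∀ c ∈ C, c⁻¹ * x * a = a * (c⁻¹ * x) → c⁻¹ * x * b = b * (c⁻¹ * x) →
      c⁻¹ * x ∈ centralizer (C : Set G) := fun c _ h1 h2 => by
    refine mem_centralizer_iff.2 fun w hw => ?_
    exact (mem_centralizer_singleton_iff.1 (h.le_of_noncommute (K := centralizer ({c⁻¹ * x} : Set G))
      ha hb hab (mem_centralizer_singleton_iff.2 h1.symm) (mem_centralizer_singleton_iff.2 h2.symm) hw))
  -- conjugation by `c` agrees with conjugation by `x` on `a` and `b`
  suffices hsuff : ∃ c ∈ C, c * a * c⁻¹ = x * a * x⁻¹ ∧ c * b * c⁻¹ = x * b * x⁻¹ by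
    obtain ⟨c, hc, h1, h2⟩ := hsuff
    refine ⟨c, hc, hcent c hc ?_ ?_⟩
    · calc c⁻¹ * x * a = c⁻¹ * (x * a * x⁻¹) * x := by group
        _ = a * (c⁻¹ * x) := by rw [← h1]; group
    · calc c⁻¹ * x * b = c⁻¹ * (x * b * x⁻¹) * x := by group
        _ = b * (c⁻¹ * x) := by rw [← h2]; group
  have hba := h.comm_eq hb ha (Ne.symm hab)
  have hab' := h.comm_eq ha hb hab
  rcases hfix a ha with ea | ea <;> rcases hfix b hb with eb | eb <;> rw [ea, eb]
  · exact ⟨1, one_mem _, by simp, by simp⟩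
  · exact ⟨a, ha, mul_inv_cancel_right a a, hab'⟩
  · exact ⟨b, hb, hba, mul_inv_cancel_right b b⟩
  · refine ⟨a * b, mul_mem ha hb, ?_, ?_⟩
    · rw [show a * b * a * (a * b)⁻¹ = a * (b * a * b⁻¹) * a⁻¹ by group, hba, ← mul_assoc,
        hzc a ha]
      group
    · rw [show a * b * b * (a * b)⁻¹ = a * (b * b * b⁻¹) * a⁻¹ by group, mul_inv_cancel_right, hab']

theorem Eight.commute_of_odd_fix (h : Eight C z) {g w : G} (hg : Odd (orderOf g)) (hgz : g * z = z * g)
    (hfix : g * w * g⁻¹ = w ∨ g * w * g⁻¹ = z * w) : g * w = w * g := by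
  rcases hfix with e | e
  · exact mul_inv_eq_iff_eq_mul.1 e
  exfalso
  have hind : ∀ n : ℕ, g ^ n * w * (g ^ n)⁻¹ = z ^ n * w := by
    intro n
    induction n with
    | zero => simp
    | succ n ih =>
      calc g ^ (n + 1) * w * (g ^ (n + 1))⁻¹ = g * (g ^ n * w * (g ^ n)⁻¹) * g⁻¹ := by
            rw [pow_succ']; group
        _ = (g * z ^ n * g⁻¹) * (g * w * g⁻¹) := by rw [ih]; group
        _ = z ^ (n + 1) * w := by
            rw [(show Commute g z from hgz).pow_right n |>.eq, mul_inv_cancel_right, e, ← mul_assoc, ← pow_succ]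
  have h1 := hind (orderOf g)
  rw [pow_orderOf_eq_one] at h1
  obtain ⟨m, hm⟩ := hg
  rw [hm, pow_succ, pow_mul, sq, h.z_mul_z, one_pow, one_mul, one_mul, inv_one, mul_one] at h1
  exact h.ne (mul_eq_right.1 h1.symm)

theorem commute_of_sq_odd {g w : G} (hg : Odd (orderOf g)) (h : Commute (g * g) w) : Commute g w := by
  obtain ⟨m, hm⟩ := hg
  have e : g = (g * g) ^ (m + 1) := by
    rw [← sq, ← pow_mul, show 2 * (m + 1) = orderOf g + 1 by omega, pow_succ, pow_orderOf_eq_one, one_mul]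
  rw [e]
  exact h.pow_left _

/-- If an element of odd order moves `C`, then `C` is quaternion: all squares outside the centre are `z`. -/
theorem Eight.sq_eq_of_odd [Finite G] (h : Eight C z) {g : G} (hg : Odd (orderOf g))
    (hgC : ∀ w ∈ C, g * w * g⁻¹ ∈ C) (hgne : g ∉ centralizer (C : Set G)) {w : G} (hw : w ∈ C)
    (hwZ : w ≠ 1 ∧ w ≠ z) : w * w = z := by
  rcases (h.center _).1 ⟨mul_mem hw hw, h.sq w hw⟩ with e | e
  swap
  · exact e
  exfalso
  have hzc : ∀ w ∈ C, Commute w z := fun w hw => mem_centralizer_iff.1 h.z_mem.2 w hw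
  -- `g` fixes `z`
  have hgz : g * z = z * g := by
    have h1 : g * z * g⁻¹ ∈ C ⊓ centralizer (C : Set G) := by
      refine ⟨hgC z h.z_mem.1, mem_centralizer_iff.2 fun v hv => ?_⟩
      have hinv : g⁻¹ * v * g ∈ C := by
        have hfin : C.map (MulAut.conj g).toMonoidHom = C := eq_of_le_of_card_ge
          (by rintro _ ⟨a, ha, rfl⟩; exact hgC a ha) (card_map_of_injective (MulAut.conj g).injective).ge
        rw [← hfin] at hv
        obtain ⟨a, ha, rfl⟩ := hv
        simpa [mul_assoc] using ha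
      calc v * (g * z * g⁻¹) = g * ((g⁻¹ * v * g) * z) * g⁻¹ := by group
        _ = g * (z * (g⁻¹ * v * g)) * g⁻¹ := by rw [(hzc _ hinv).eq]
        _ = g * z * g⁻¹ * v := by group
    rcases (h.center _).1 h1 with e | e
    · exact absurd (conj_eq_one_iff.1 e) h.ne
    · exact mul_inv_eq_iff_eq_mul.1 e
  have hgz' : ∀ v, g * (v * z) * g⁻¹ = g * v * g⁻¹ * z := fun v => by
    rw [show g * (v * z) * g⁻¹ = g * v * g⁻¹ * (g * z * g⁻¹) by group, hgz, mul_inv_cancel_right]
  set w₁ := g * w * g⁻¹ with hw₁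
  have hw₁C : w₁ ∈ C := hgC w hw
  have hw₁2 : w₁ * w₁ = 1 := by rw [hw₁]; simp [mul_assoc, ← mul_assoc w w, e]
  have hw₁Z : w₁ ≠ 1 ∧ w₁ ≠ z := ⟨fun e1 => hwZ.1 (conj_eq_one_iff.1 e1), fun e1 => hwZ.2 (by
    have := congrArg (fun v => g⁻¹ * v * g) e1
    simp only [hw₁] at this
    rw [show g⁻¹ * (g * w * g⁻¹) * g = w by group, mul_assoc, ← hgz, inv_mul_cancel_left] at this
    exact this)⟩
  -- a second generator
  have hzi : z⁻¹ = z := inv_eq_of_mul_eq_one_right h.z_mul_z
  by_cases hfix : w₁ = w ∨ w₁ = w * z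
  · -- `g` centralizes `w`
    have hgw : g * w = w * g := h.commute_of_odd_fix hg hgz
      (hfix.imp id fun e1 => e1.trans (hzc w hw).eq)
    obtain ⟨u, hu, hu1⟩ : ∃ u ∈ C, w * u ≠ u * w := by
      by_contra hcon
      push Not at hcon
      rcases (h.center w).1 ⟨hw, mem_centralizer_iff.2 fun a ha => (hcon a ha).symm⟩ with e1 | e1
      exacts [hwZ.1 e1, hwZ.2 e1]
    apply hgne
    have hgu : Commute g u := by
      refine commute_of_sq_odd hg (h.commute_of_odd_fix ?_ ?_ ?_)
      · exact hg.of_dvd_nat (sq g ▸ orderOf_pow_dvd 2)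
      · exact ((show Commute g z from hgz).mul_left hgz).eq
      -- both `u` and `g u g⁻¹` fail to commute with `w`
      have hu' : w * (g * u * g⁻¹) ≠ g * u * g⁻¹ * w := by
        intro e1
        apply hu1
        have hwg : Commute w g := hgw.symm
        calc w * u = g⁻¹ * (w * (g * u * g⁻¹)) * g := by rw [← mul_assoc w, ← mul_assoc w, hwg.eq]; group
          _ = g⁻¹ * (g * u * g⁻¹ * w) * g := by rw [e1]
          _ = g⁻¹ * (g * u * g⁻¹) * (w * g) := by group
          _ = u * w := by rw [hwg.eq]; group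
      by_cases h1 : g * u * g⁻¹ = u ∨ g * u * g⁻¹ = u * z
      · have := h.commute_of_odd_fix hg hgz (h1.imp id fun e1 => e1.trans (hzc u hu).eq)
        left
        rw [(show Commute g u from this).mul_left this |>.eq, mul_inv_cancel_right]
      · push Not at h1
        -- so `g u g⁻¹` is `u w` up to `z`
        have hv : g * u * g⁻¹ * u⁻¹ ∈ C := mul_mem (hgC u hu) (inv_mem hu)
        have hvw : w * (g * u * g⁻¹ * u⁻¹) = g * u * g⁻¹ * u⁻¹ * w := by
          have e1 := h.comm_eq hw (hgC u hu) hu'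
          have e2 := h.comm_eq hw hu hu1
          have e3 : w * (g * u * g⁻¹ * u⁻¹) * w⁻¹ = g * u * g⁻¹ * u⁻¹ := by
            rw [show w * (g * u * g⁻¹ * u⁻¹) * w⁻¹ = (w * (g * u * g⁻¹) * w⁻¹) * (w * u * w⁻¹)⁻¹ by group,
              e1, e2, mul_inv_rev, ← mul_assoc, mul_assoc z, hzi,
              mul_assoc z, (hzc _ hv).eq, ← mul_assoc, h.z_mul_z, one_mul]
          exact mul_inv_eq_iff_eq_mul.1 e3
        obtain ⟨d, hd, hd'⟩ : ∃ d, (d = w ∨ d = w * z) ∧ g * u * g⁻¹ = d * u := by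
          refine ⟨g * u * g⁻¹ * u⁻¹, ?_, by group⟩
          by_contra hne
          push Not at hne
          refine h.noncommute hw hv hwZ ⟨?_, ?_⟩ hne hvw
          · intro e1; exact h1.1 (mul_inv_eq_one.1 e1)
          · intro e1; exact h1.2 (by rw [mul_inv_eq_iff_eq_mul.1 e1]; exact (hzc u hu).eq.symm)
        have hd2 : d * d = 1 := by
          rcases hd with rfl | rfl
          · exact e
          · rw [mul_assoc, ← mul_assoc z, ← (hzc w hw).eq, mul_assoc w z, h.z_mul_z, mul_one, e]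
        have hgd : g * d * g⁻¹ = d := by
          rcases hd with rfl | rfl
          · rw [hgw, mul_inv_cancel_right]
          · rw [hgz', hgw, mul_inv_cancel_right]
        left
        calc g * g * u * (g * g)⁻¹ = g * (g * u * g⁻¹) * g⁻¹ := by group
          _ = g * (d * u) * g⁻¹ := by rw [hd']
          _ = (g * d * g⁻¹) * (g * u * g⁻¹) := by group
          _ = u := by rw [hgd, hd', ← mul_assoc, hd2, one_mul]
    refine mem_centralizer_iff.2 fun v hv => ?_
    exact mem_centralizer_singleton_iff.1 (h.le_of_noncommute (K := centralizer ({g} : Set G)) hw hu hu1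
      (mem_centralizer_singleton_iff.2 hgw.symm) (mem_centralizer_singleton_iff.2 hgu.eq.symm) hv)
  · push Not at hfix
    have hnc : w * w₁ ≠ w₁ * w := h.noncommute hw hw₁C hwZ hw₁Z hfix
    set w₂ := g * w₁ * g⁻¹ with hw₂
    have hw₂2 : w₂ * w₂ = 1 := by rw [hw₂]; simp [mul_assoc, ← mul_assoc w₁ w₁, hw₁2]
    have hnc2 : w₁ * w₂ ≠ w₂ * w₁ := fun e1 => hnc (mul_left_cancel (a := g) (mul_right_cancel (b := g⁻¹) (by
      calc g * (w * w₁) * g⁻¹ = (g * w * g⁻¹) * (g * w₁ * g⁻¹) := by group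
        _ = w₁ * w₂ := by rw [← hw₁, ← hw₂]
        _ = w₂ * w₁ := e1
        _ = (g * w₁ * g⁻¹) * (g * w * g⁻¹) := by rw [← hw₁, ← hw₂]
        _ = g * (w₁ * w) * g⁻¹ := by group)))
    -- `w w₂` commutes with `w₁`
    have hv : w * w₂ ∈ C := mul_mem hw (hgC _ hw₁C)
    have hvc : w₁ * (w * w₂) = w * w₂ * w₁ := by
      have e1 := h.comm_eq hw₁C hw hnc.symm
      have e2 := h.comm_eq hw₁C (hgC _ hw₁C) hnc2
      refine mul_inv_eq_iff_eq_mul.1 ?_
      rw [show w₁ * (w * w₂) * w₁⁻¹ = (w₁ * w * w₁⁻¹) * (w₁ * w₂ * w₁⁻¹) by group, e1, e2,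
        mul_assoc z w, ← mul_assoc w z, (hzc w hw).eq, mul_assoc z, ← mul_assoc, h.z_mul_z, one_mul]
    by_cases hv1 : w * w₂ = 1 ∨ w * w₂ = z
    · -- `g * g` fixes `w` modulo the centre
      have hw₂w : w₂ = w ∨ w₂ = z * w := by
        have hwi : w⁻¹ = w := inv_eq_of_mul_eq_one_right e
        rcases hv1 with e1 | e1
        · left; rw [eq_inv_of_mul_eq_one_right e1, hwi]
        · right; rw [← (hzc w hw).eq, ← e1, ← mul_assoc, e, one_mul]
      have hgg : Commute (g * g) w := h.commute_of_odd_fix (g := g * g) (hg.of_dvd_nat (sq g ▸ orderOf_pow_dvd 2))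
        ((show Commute g z from hgz).mul_left hgz).eq
        (by rw [show g * g * w * (g * g)⁻¹ = w₂ by rw [hw₂, hw₁]; group]; exact hw₂w)
      exact hfix.1 (by rw [hw₁, (commute_of_sq_odd hg hgg).eq, mul_inv_cancel_right])
    push Not at hv1
    -- hence `w w₂ ∈ {w₁, w₁ z}`, an involution, so `w` commutes with `w₂`
    have hmem : w * w₂ = w₁ ∨ w * w₂ = w₁ * z := by
      by_contra hne
      push Not at hne
      exact h.noncommute hw₁C hv hw₁Z hv1 hne hvc
    have hvv : (w * w₂) * (w * w₂) = 1 := by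
      rcases hmem with e1 | e1 <;> rw [e1]
      · exact hw₁2
      · rw [mul_assoc, ← mul_assoc z, ← (hzc w₁ hw₁C).eq, mul_assoc w₁ z, h.z_mul_z, mul_one, hw₁2]
    have hc : w₂ * w = w * w₂ :=
      calc w₂ * w = w * ((w * w₂) * (w * w₂)) * w₂ := by
            rw [show w * ((w * w₂) * (w * w₂)) * w₂ = (w * w) * (w₂ * w) * (w₂ * w₂) by group, e, hw₂2,
              one_mul, mul_one]
        _ = w * w₂ := by rw [hvv, mul_one]
    -- so `w` and `w₁ ∈ w w₂ Z` commute
    apply hnc
    rcases hmem with e1 | e1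
    · rw [← e1, mul_assoc w w₂ w, hc]
    · have e2 : w₁ = w * w₂ * z := by rw [e1, mul_assoc, h.z_mul_z, mul_one]
      rw [e2, mul_assoc (w * w₂) z w, ← (hzc w hw).eq, ← mul_assoc (w * w₂), mul_assoc w w₂ w, hc,
        mul_assoc w (w * w₂) z]

end Eight

end Cfsg.Agent.SmallAbelian
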